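import Groth.Prelude.Def_MeroDiv
import Groth.Agent.GenLocus.PullFrame
import Groth.Agent.ProjUPLib.TwistN

/-!
# Extending an invertible module from an open by gluing frames
-/

set_option autoImplicit false
set_option backward.isDefEq.respectTransparency false
set_option backward.isDefEq.respectTransparency.types false

noncomputable section

universe u

open CategoryTheory AlgebraicGeometry Opposite TopologicalSpace
open Groth.Agent.QCohBase Groth.Agent.GenLocus

namespace Groth.Agent.ModGlue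

variable {X : Scheme.{u}}

/-- An open `U`, a module `M` and frames of `M` on the traces of further opens meeting pairwise only inside `U`. -/
structure Data (X : Scheme.{u}) where
  /-- the module, only used on `U` -/
  M : X.Modules
  /-- the open -/
  U : X.Opens
  /-- index type of the further opens -/
  ι : Type u
  /-- the further opens -/
  W : ι → X.Opens
  /-- the frames -/
  e : ∀ i, Γ(M, W i ⊓ U)
  frame : ∀ i, IsFrame M (e i)
  cover : ∀ x : X, x ∈ U ∨ ∃ i, x ∈ W i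
  disj : ∀ i j, i ≠ j → W i ⊓ W j ≤ U

namespace Data

variable (d : Data X)

/-- The type of values at a point. -/
abbrev T (x : X) : Type u := ↥(d.M.presheaf.stalk x) × ↥(X.presheaf.stalk x)

open scoped Classical in
/-- The value of `f` times the `i`-th generator. -/
def chartVal (i : d.ι) {V : X.Opens} (h : V ≤ d.W i) (f : Γ(X, V)) (x : V) : d.T x.1 :=
  if hx : x.1 ∈ d.U then
    (X.presheaf.germ V x.1 x.2 f • d.M.presheaf.germ (d.W i ⊓ d.U) x.1 ⟨h x.2, hx⟩ (d.e i), 0)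
  else (0, X.presheaf.germ V x.1 x.2 f)

/-- The basic shapes of sections. -/
def pre : TopCat.PrelocalPredicate d.T where
  pred {V} φ :=
    (∃ (_ : V ≤ d.U) (m : Γ(d.M, V)), ∀ x : V, φ x = (d.M.presheaf.germ V x.1 x.2 m, 0)) ∨
      ∃ (i : d.ι) (h : V ≤ d.W i) (f : Γ(X, V)), ∀ x : V, φ x = d.chartVal i h f x
  res {V' V} j φ := by
    rintro (⟨h, m, hm⟩ | ⟨i, h, f, hf⟩)
    · refine Or.inl ⟨j.le.trans h, d.M.presheaf.map j.op m, fun x => ?_⟩
      refine (hm (j x)).trans ?_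
      rw [TopCat.Presheaf.germ_res_apply]
      rfl
    · refine Or.inr ⟨i, j.le.trans h, X.presheaf.map j.op f, fun x => ?_⟩
      refine (hf (j x)).trans ?_
      unfold chartVal
      rw [TopCat.Presheaf.germ_res_apply]
      rfl

/-- Inside `U` a chart value is a section of `M`. -/
theorem chart_to_U (i : d.ι) {V : X.Opens} (h : V ≤ d.W i) (hU : V ≤ d.U) (f : Γ(X, V)) :
    ∀ x : V, d.chartVal i h f x =
      (d.M.presheaf.germ V x.1 x.2 (f • mres d.M (le_inf h hU) (d.e i)), 0) := fun x => by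
  rw [chartVal, dif_pos (hU x.2)]
  erw [Mero.germ_smul, TopCat.Presheaf.germ_res_apply]

/-- A shape of a section on an open inside `U` comes from `M`. -/
theorem pre_inside {V : X.Opens} (hU : V ≤ d.U) {φ : ∀ x : V, d.T x.1} (h : d.pre.pred φ) :
    ∃ m : Γ(d.M, V), ∀ x : V, φ x = (d.M.presheaf.germ V x.1 x.2 m, 0) := by
  rcases h with ⟨_, m, hm⟩ | ⟨i, h, f, hf⟩
  · exact ⟨m, hm⟩
  · exact ⟨_, fun x => (hf x).trans (d.chart_to_U i h hU f x)⟩

theorem chartVal_add (i : d.ι) {V : X.Opens} (h : V ≤ d.W i) (f g : Γ(X, V)) (x : V) :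
    d.chartVal i h (f + g) x = d.chartVal i h f x + d.chartVal i h g x := by
  unfold chartVal
  split_ifs with hx
  · rw [map_add, add_smul, Prod.mk_add_mk, add_zero]
  · rw [map_add, Prod.mk_add_mk, add_zero]

theorem chartVal_mul (i : d.ι) {V : X.Opens} (h : V ≤ d.W i) (r f : Γ(X, V)) (x : V) :
    d.chartVal i h (r * f) x = X.presheaf.germ V x.1 x.2 r • d.chartVal i h f x := by
  unfold chartVal
  split_ifs with hx
  · rw [map_mul, mul_smul, Prod.smul_mk, smul_zero]
  · rw [map_mul, Prod.smul_mk, smul_zero, smul_eq_mul]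

instance : Mero.IsModPred d.pre.sheafify where
  zero V x := by
    rcases d.cover x.1 with hx | ⟨i, hx⟩
    · exact ⟨V ⊓ d.U, ⟨x.2, hx⟩, homOfLE inf_le_left,
        Or.inl ⟨inf_le_right, 0, fun y => by rw [map_zero]; rfl⟩⟩
    · refine ⟨V ⊓ d.W i, ⟨x.2, hx⟩, homOfLE inf_le_left, Or.inr ⟨i, inf_le_right, 0, fun y => ?_⟩⟩
      unfold chartVal
      split_ifs <;> simp only [map_zero, zero_smul] <;> rfl
  add V φ ψ hφ hψ x := by
    obtain ⟨V₁, hx₁, i₁, h₁⟩ := hφ x
    obtain ⟨V₂, hx₂, i₂, h₂⟩ := hψ x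
    have h₁' := d.pre.res (homOfLE (inf_le_left : V₁ ⊓ V₂ ≤ V₁)) _ h₁
    have h₂' := d.pre.res (homOfLE (inf_le_right : V₁ ⊓ V₂ ≤ V₂)) _ h₂
    refine ⟨V₁ ⊓ V₂, ⟨hx₁, hx₂⟩, homOfLE (inf_le_left.trans i₁.le), ?_⟩
    have inU : ∀ hU : V₁ ⊓ V₂ ≤ d.U, d.pre.pred
        fun y : ↥(V₁ ⊓ V₂) => (φ + ψ) ⟨y.1, i₁.le y.2.1⟩ := fun hU => by
      obtain ⟨m₁, e₁⟩ := d.pre_inside hU h₁'
      obtain ⟨m₂, e₂⟩ := d.pre_inside hU h₂'
      refine Or.inl ⟨hU, m₁ + m₂, fun y => ?_⟩
      have ea := e₁ y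
      have eb := e₂ y
      simp only [Pi.add_apply, map_add]
      exact (congrArg₂ (· + ·) ea eb).trans (by rw [Prod.mk_add_mk, add_zero])
    rcases h₁' with ⟨hU, -⟩ | ⟨i, hi, f, hf⟩
    · exact inU hU
    rcases h₂' with ⟨hU, -⟩ | ⟨j, hj, g, hg⟩
    · exact inU hU
    by_cases hij : i = j
    · subst hij
      refine Or.inr ⟨i, hi, f + g, fun y => ?_⟩
      rw [d.chartVal_add, ← hf y, ← hg y]
      rfl
    · exact inU ((le_inf hi hj).trans (d.disj i j hij))
  smul V r φ hφ x := by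
    obtain ⟨V₁, hx₁, i₁, h₁⟩ := hφ x
    refine ⟨V₁, hx₁, i₁, ?_⟩
    have hr : ∀ y : V₁, X.presheaf.germ V y.1 (i₁.le y.2) r = X.presheaf.germ V₁ y.1 y.2 (ores i₁.le r) :=
      fun y => (TopCat.Presheaf.germ_res_apply X.presheaf _ _ _ r).symm
    rcases h₁ with ⟨hU, m, hm⟩ | ⟨i, hi, f, hf⟩
    · refine Or.inl ⟨hU, ores i₁.le r • m, fun y => ?_⟩
      refine (congrArg (_ • ·) (hm y)).trans (Prod.ext ?_ (smul_zero _))
      refine Eq.trans ?_ (Mero.germ_smul d.M V₁ y.1 y.2 (ores i₁.le r) m).symm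
      rw [← hr y]
      rfl
    · refine Or.inr ⟨i, hi, ores i₁.le r * f, fun y => ?_⟩
      rw [d.chartVal_mul, ← hr y, ← hf y]
      rfl

/-- The glued module. -/
def mod : X.Modules := Mero.modOf d.pre.sheafify

/-- Two chart values agree iff the functions agree. -/
theorem chartVal_injective (i : d.ι) {V : X.Opens} (h : V ≤ d.W i) (f g : Γ(X, V))
    (hfg : ∀ x : V, d.chartVal i h f x = d.chartVal i h g x) : f = g := by
  refine TopCat.Presheaf.section_ext X.sheaf _ _ _ fun x hx => ?_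
  by_cases hxU : x ∈ d.U
  · have e := congrArg Prod.fst (hfg ⟨x, hx⟩)
    simp only [chartVal, dif_pos hxU] at e
    have hle : V ⊓ d.U ≤ d.W i ⊓ d.U := inf_le_inf_right _ h
    have e' : d.M.presheaf.germ (V ⊓ d.U) x ⟨hx, hxU⟩
        (ores (inf_le_left : V ⊓ d.U ≤ V) f • mres d.M hle (d.e i)) =
        d.M.presheaf.germ (V ⊓ d.U) x ⟨hx, hxU⟩ (ores (inf_le_left : V ⊓ d.U ≤ V) g • mres d.M hle (d.e i)) := by
      erw [Mero.germ_smul, Mero.germ_smul, TopCat.Presheaf.germ_res_apply, TopCat.Presheaf.germ_res_apply,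
        TopCat.Presheaf.germ_res_apply]
      exact e
    obtain ⟨W', hxW', j₁, j₂, hW'⟩ := TopCat.Presheaf.germ_eq d.M.presheaf x _ _ _ _ e'
    change mres d.M j₁.le _ = mres d.M j₂.le _ at hW'
    rw [mres_smul, mres_smul, mres_mres, ores_ores, ores_ores] at hW'
    have := (d.frame i W' (j₁.le.trans hle)).1 hW'
    have h2 := congrArg (X.presheaf.germ W' x hxW') this
    erw [TopCat.Presheaf.germ_res_apply, TopCat.Presheaf.germ_res_apply] at h2
    exact h2
  · have e := congrArg Prod.snd (hfg ⟨x, hx⟩)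
    simp only [chartVal, dif_neg hxU] at e
    exact e

/-- Two sections of `M` inside `U` with equal values agree. -/
theorem insideVal_injective {V : X.Opens} (m m' : Γ(d.M, V))
    (h : ∀ x : V, ((d.M.presheaf.germ V x.1 x.2 m, 0) : d.T x.1) = (d.M.presheaf.germ V x.1 x.2 m', 0)) : m = m' :=
  TopCat.Presheaf.section_ext ⟨d.M.presheaf, d.M.isSheaf⟩ _ _ _ fun x hx => congrArg Prod.fst (h ⟨x, hx⟩)

/-- The section `1` of the `i`-th chart. -/
def gen (i : d.ι) : Γ(d.mod, d.W i) :=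
  ⟨fun x => d.chartVal i le_rfl 1 x, TopCat.PrelocalPredicate.sheafifyOf
    (P := d.pre) (Or.inr ⟨i, le_rfl, 1, fun _ => rfl⟩)⟩

theorem smul_gen_apply (i : d.ι) {V : X.Opens} (h : V ≤ d.W i) (f : Γ(X, V)) (x : V) :
    (f • mres d.mod h (d.gen i)).1 x = d.chartVal i h f x := by
  refine Eq.trans (b := X.presheaf.germ V x.1 x.2 f • d.chartVal i le_rfl 1 ⟨x.1, h x.2⟩) rfl ?_
  conv_rhs => rw [show f = f * 1 from (mul_one f).symm, d.chartVal_mul]
  congr 1
  unfold chartVal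
  simp only [map_one]

/-- The section `1` of a chart is a frame. -/
theorem isFrame_gen (i : d.ι) : IsFrame d.mod (d.gen i) := fun V h => by
  refine ⟨fun f g e => d.chartVal_injective i h f g fun x => ?_, fun σ => ?_⟩
  · have := congrArg (fun s : Γ(d.mod, V) => s.1 x) e
    simpa only [smul_gen_apply] using this
  have hloc : ∀ x : V, ∃ (V' : X.Opens) (_ : x.1 ∈ V') (hV' : V' ≤ V) (f : Γ(X, V')),
      ∀ y : V', σ.1 ⟨y.1, hV' y.2⟩ = d.chartVal i (hV'.trans h) f y := by
    intro x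
    obtain ⟨V', hx', j, hp⟩ := σ.2 x
    have inU : ∀ hU : V' ≤ d.U, ∃ f : Γ(X, V'), ∀ y : V', σ.1 ⟨y.1, j.le y.2⟩ =
        d.chartVal i (j.le.trans h) f y := fun hU => by
      obtain ⟨m, hm⟩ := d.pre_inside hU hp
      obtain ⟨f, hf⟩ := (d.frame i V' (le_inf (j.le.trans h) hU)).2 m
      exact ⟨f, fun y => (hm y).trans (by rw [d.chart_to_U i _ hU, ← hf])⟩
    have main : ∃ f : Γ(X, V'), ∀ y : V', σ.1 ⟨y.1, j.le y.2⟩ = d.chartVal i (j.le.trans h) f y := by
      rcases hp with ⟨hU, -⟩ | ⟨k, hk, f, hf⟩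
      · exact inU hU
      by_cases hki : k = i
      · subst hki
        exact ⟨f, hf⟩
      · exact inU ((le_inf hk (j.le.trans h)).trans (d.disj k i hki))
    obtain ⟨f, hf⟩ := main
    exact ⟨V', hx', j.le, f, hf⟩
  choose V' hxV' hV' f hf using hloc
  obtain ⟨g, hg, -⟩ := X.sheaf.existsUnique_gluing' V' V (fun x => homOfLE (hV' x))
    (fun x hx => Opens.mem_iSup.2 ⟨⟨x, hx⟩, hxV' ⟨x, hx⟩⟩) f fun x y => by
      refine d.chartVal_injective i ((inf_le_left.trans (hV' x)).trans h) _ _ fun z => ?_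
      have e₁ := hf x ⟨z.1, z.2.1⟩
      have e₂ := hf y ⟨z.1, z.2.2⟩
      have e := e₁.symm.trans e₂
      unfold chartVal at e ⊢
      erw [TopCat.Presheaf.germ_res_apply, TopCat.Presheaf.germ_res_apply]
      exact e
  refine ⟨g, Subtype.ext (funext fun x => ?_)⟩
  rw [smul_gen_apply]
  refine Eq.trans ?_ (hf x ⟨x.1, hxV' x⟩).symm
  have e : X.presheaf.map (homOfLE (hV' x)).op g = f x := hg x
  unfold chartVal
  rw [← e, TopCat.Presheaf.germ_res_apply]

/-- A section of `M` inside `U` as a section of the glued module. -/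
def inside {V : X.Opens} (hV : V ≤ d.U) : Γ(d.M, V) →+ Γ(d.mod, V) where
  toFun m := ⟨fun x => (d.M.presheaf.germ V x.1 x.2 m, 0),
    TopCat.PrelocalPredicate.sheafifyOf (P := d.pre) (Or.inl ⟨hV, m, fun _ => rfl⟩)⟩
  map_zero' := Subtype.ext (funext fun x => by
    simp only [map_zero]
    rfl)
  map_add' m m' := Subtype.ext (funext fun x => by
    refine Eq.trans ?_ (Mero.pred_add_apply d.pre.sheafify _ _ x).symm
    simp only [map_add, Prod.mk_add_mk, add_zero])

theorem bijective_inside {V : X.Opens} (hV : V ≤ d.U) : Function.Bijective (d.inside hV) := by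
  refine ⟨fun m m' e => d.insideVal_injective m m' fun x => congrArg (fun s : Γ(d.mod, V) => s.1 x) e,
    fun σ => ?_⟩
  have hloc : ∀ x : V, ∃ (V' : X.Opens) (_ : x.1 ∈ V') (hV' : V' ≤ V) (m : Γ(d.M, V')),
      ∀ y : V', σ.1 ⟨y.1, hV' y.2⟩ = (d.M.presheaf.germ V' y.1 y.2 m, 0) := by
    intro x
    obtain ⟨V', hx', j, hp⟩ := σ.2 x
    obtain ⟨m, hm⟩ := d.pre_inside (j.le.trans hV) hp
    exact ⟨V', hx', j.le, m, hm⟩
  choose V' hxV' hV' m hm using hloc
  obtain ⟨g, hg, -⟩ := TopCat.Sheaf.existsUnique_gluing' (⟨d.M.presheaf, d.M.isSheaf⟩ : TopCat.Sheaf Ab.{u} X)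
    V' V (fun x => homOfLE (hV' x)) (fun x hx => Opens.mem_iSup.2 ⟨⟨x, hx⟩, hxV' ⟨x, hx⟩⟩) m fun x y => by
      refine d.insideVal_injective _ _ fun z => ?_
      erw [TopCat.Presheaf.germ_res_apply, TopCat.Presheaf.germ_res_apply]
      exact (hm x ⟨z.1, z.2.1⟩).symm.trans (hm y ⟨z.1, z.2.2⟩)
  refine ⟨g, Subtype.ext (funext fun x => ?_)⟩
  refine Eq.trans ?_ (hm x ⟨x.1, hxV' x⟩).symm
  have e : d.M.presheaf.map (homOfLE (hV' x)).op g = m x := hg x
  rw [← e, TopCat.Presheaf.germ_res_apply]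
  rfl

theorem inside_mres {V V' : X.Opens} (hV : V ≤ d.U) (h : V' ≤ V) (m : Γ(d.M, V)) :
    mres d.mod h (d.inside hV m) = d.inside (h.trans hV) (mres d.M h m) :=
  Subtype.ext (funext fun x =>
    Prod.ext (TopCat.Presheaf.germ_res_apply d.M.presheaf (homOfLE h) x.1 x.2 m).symm rfl)

theorem inside_smul {V : X.Opens} (hV : V ≤ d.U) (r : Γ(X, V)) (m : Γ(d.M, V)) :
    d.inside hV (r • m) = r • d.inside hV m :=
  Subtype.ext (funext fun x => Prod.ext (Mero.germ_smul d.M V x.1 x.2 r m) (mul_zero _).symm)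

/-- The components of the comparison on `U`. -/
def restrictApp (V : (d.U : Scheme.{u}).Opens) : Γ(d.M.restrict d.U.ι, V) →+ Γ(d.mod.restrict d.U.ι, V) :=
  ((d.mod.restrictAppIso d.U.ι V).inv.hom.comp
    (d.inside ((d.U.ι.image_le_opensRange V).trans_eq d.U.opensRange_ι))).comp (d.M.restrictAppIso d.U.ι V).hom.hom

theorem restrictApp_apply (V : (d.U : Scheme.{u}).Opens) (m : Γ(d.M.restrict d.U.ι, V)) :
    d.restrictApp V m = (d.mod.restrictAppIso d.U.ι V).inv
      (d.inside ((d.U.ι.image_le_opensRange V).trans_eq d.U.opensRange_ι) ((d.M.restrictAppIso d.U.ι V).hom m)) := rfl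

theorem restrict_mres (N : X.Modules) {V V' : (d.U : Scheme.{u}).Opens} (h : V' ≤ V) (n : Γ(N, d.U.ι ''ᵁ V)) :
    mres (N.restrict d.U.ι) h ((N.restrictAppIso d.U.ι V).inv n) =
      (N.restrictAppIso d.U.ι V').inv (mres N (Scheme.Hom.image_mono _ h) n) :=
  ConcreteCategory.congr_hom (Scheme.Modules.restrictAppIso_inv_map d.U.ι N (homOfLE h).op) n

theorem restrict_mres' (N : X.Modules) {V V' : (d.U : Scheme.{u}).Opens} (h : V' ≤ V) (n : Γ(N.restrict d.U.ι, V)) :
    (N.restrictAppIso d.U.ι V').hom (mres (N.restrict d.U.ι) h n) =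
      mres N (Scheme.Hom.image_mono _ h) ((N.restrictAppIso d.U.ι V).hom n) :=
  ConcreteCategory.congr_hom (Scheme.Modules.map_restrictAppIso_hom d.U.ι N (homOfLE h).op) n

theorem restrictApp_res (V V' : (d.U : Scheme.{u}).Opens) (h : V' ≤ V) (m : Γ(d.M.restrict d.U.ι, V)) :
    mres (d.mod.restrict d.U.ι) h (d.restrictApp V m) = d.restrictApp V' (mres (d.M.restrict d.U.ι) h m) := by
  rw [d.restrictApp_apply, d.restrictApp_apply, d.restrict_mres, d.restrict_mres', d.inside_mres]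

theorem restrictApp_smul (V : (d.U : Scheme.{u}).Opens) (r : Γ((d.U : Scheme.{u}), V)) (m : Γ(d.M.restrict d.U.ι, V)) :
    d.restrictApp V (r • m) = r • d.restrictApp V m := by
  have e1 : (d.M.restrictAppIso d.U.ι V).hom (r • m) =
      (d.U.ι.appIso V).inv r • (d.M.restrictAppIso d.U.ι V).hom m :=
    ConcreteCategory.congr_hom (Scheme.Modules.smul_restrictAppIso_hom d.U.ι d.M V r) m
  have e2 : ∀ (t : Γ(X, d.U.ι ''ᵁ V)) (n : Γ(d.mod, d.U.ι ''ᵁ V)),
      (d.mod.restrictAppIso d.U.ι V).inv (t • n) =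
        (d.U.ι.appIso V).hom t • (d.mod.restrictAppIso d.U.ι V).inv n := fun t n =>
    ConcreteCategory.congr_hom (Scheme.Modules.smul_restrictAppIso_inv d.U.ι d.mod V t) n
  rw [d.restrictApp_apply, d.restrictApp_apply, e1, d.inside_smul, e2, ← CommRingCat.comp_apply,
    Iso.inv_hom_id, CommRingCat.id_apply]

/-- `M` is the restriction of the glued module to `U`. -/
def restrictHom : d.M.restrict d.U.ι ⟶ d.mod.restrict d.U.ι :=
  modHomMk d.restrictApp d.restrictApp_res d.restrictApp_smul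

theorem restrictHom_app (V : (d.U : Scheme.{u}).Opens) (m : Γ(d.M.restrict d.U.ι, V)) :
    d.restrictHom.app V m = d.restrictApp V m :=
  modHomMk_app d.restrictApp d.restrictApp_res d.restrictApp_smul V m

theorem nonempty_restrict_iso : Nonempty (d.mod.restrict d.U.ι ≅ d.M.restrict d.U.ι) := by
  have hb : ∀ V, Function.Bijective (d.restrictApp V) := fun V => by
    have hle : d.U.ι ''ᵁ V ≤ d.U := (d.U.ι.image_le_opensRange V).trans_eq d.U.opensRange_ι
    have h1 := ConcreteCategory.bijective_of_isIso (d.mod.restrictAppIso d.U.ι V).inv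
    have h2 := d.bijective_inside hle
    have h3 := ConcreteCategory.bijective_of_isIso (d.M.restrictAppIso d.U.ι V).hom
    refine ⟨fun a b h => ?_, fun y => ?_⟩
    · rw [d.restrictApp_apply, d.restrictApp_apply] at h
      exact h3.1 (h2.1 (h1.1 h))
    · obtain ⟨z, rfl⟩ := h1.2 y
      obtain ⟨w, rfl⟩ := h2.2 z
      obtain ⟨m, rfl⟩ := h3.2 w
      exact ⟨m, d.restrictApp_apply V m⟩
  have : IsIso d.restrictHom := Scheme.Modules.Hom.isIso_iff_isIso_app.2 fun V => by
    rw [ConcreteCategory.isIso_iff_bijective]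
    refine ⟨fun a b h => (hb V).1 ?_, fun y => ?_⟩
    · rw [← d.restrictHom_app, ← d.restrictHom_app]
      exact h
    · obtain ⟨m, hm⟩ := (hb V).2 y
      exact ⟨m, (d.restrictHom_app V m).trans hm⟩
  exact ⟨(asIso d.restrictHom).symm⟩

/-- The glued module is invertible when `M` is invertible on `U`. -/
theorem isInvertible (hM : ∀ x ∈ d.U, ∃ (V : X.Opens) (_ : x ∈ V) (_ : V ≤ d.U) (a : Γ(d.M, V)), IsFrame d.M a) :
    PicF.IsInvertible d.mod := by
  refine ProjUPLib.isInvertible_of_local_frames fun x => ?_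
  rcases d.cover x with hx | ⟨i, hx⟩
  · obtain ⟨V, hxV, hVU, a, ha⟩ := hM x hx
    refine ⟨V, hxV, d.inside hVU a, fun V' h => ?_⟩
    have hcomp : (fun r : Γ(X, V') => r • mres d.mod h (d.inside hVU a)) =
        d.inside (h.trans hVU) ∘ fun r : Γ(X, V') => r • mres d.M h a := funext fun r => by
      rw [d.inside_mres, Function.comp_apply, d.inside_smul]
    rw [hcomp]
    exact (d.bijective_inside _).comp (ha V' h)
  · exact ⟨d.W i, hx, d.gen i, d.isFrame_gen i⟩

end Data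

end Groth.Agent.ModGlue
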