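import Groth.Agent.ModGlue.Lift

/-!
# Gluing invertible modules on closed subschemes meeting in discrete sets
-/

set_option autoImplicit false
set_option backward.isDefEq.respectTransparency false
set_option backward.isDefEq.respectTransparency.types false

noncomputable section

universe u

open CategoryTheory Limits AlgebraicGeometry Opposite TopologicalSpace
open Groth.Agent.QCohBase Groth.Agent.GenLocus

namespace Groth.Agent.ModGlue

attribute [local instance] Abelian.hasFiniteBiproducts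

variable {X : Scheme.{u}} {n : ℕ} (Z : Fin n → X.IdealSheafData) (L : ∀ i, (Z i).subscheme.Modules)

/-- The direct sum of the direct images. -/
abbrev pushSum : X.Modules :=
  ⨁ fun i => (Scheme.Modules.pushforward (Z i).subschemeι).obj (L i)

/-- The projection to the sections on the `i`-th closed subscheme. -/
def comp (i : Fin n) (V : X.Opens) (a : Γ(pushSum Z L, V)) : Γ(L i, (Z i).subschemeι ⁻¹ᵁ V) :=
  (biproduct.π (fun i => (Scheme.Modules.pushforward (Z i).subschemeι).obj (L i)) i).app V a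

/-- The section with a given component. -/
def incl (i : Fin n) (V : X.Opens) (b : Γ(L i, (Z i).subschemeι ⁻¹ᵁ V)) : Γ(pushSum Z L, V) :=
  (biproduct.ι (fun i => (Scheme.Modules.pushforward (Z i).subschemeι).obj (L i)) i).app V b

theorem comp_incl (i j : Fin n) (V : X.Opens) (b : Γ(L i, (Z i).subschemeι ⁻¹ᵁ V)) :
    (comp Z L j V (incl Z L i V b)) = if h : i = j then h ▸ b else 0 := by
  have e := congrArg (fun φ => Scheme.Modules.Hom.app φ V)
    (biproduct.ι_π (fun i => (Scheme.Modules.pushforward (Z i).subschemeι).obj (L i)) i j)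
  have e' := ConcreteCategory.congr_hom e b
  simp only [Scheme.Modules.Hom.comp_app, ConcreteCategory.comp_apply] at e'
  refine e'.trans ?_
  by_cases h : i = j
  · subst h
    simp
  · simp [h]

theorem comp_res (i : Fin n) {V W : X.Opens} (h : W ≤ V) (a : Γ(pushSum Z L, V)) :
    mres (L i) ((Z i).subschemeι.preimage_mono h) (comp Z L i V a) = comp Z L i W (mres _ h a) :=
  app_mres (biproduct.π (fun i => (Scheme.Modules.pushforward (Z i).subschemeι).obj (L i)) i) h a

theorem comp_smul (i : Fin n) {V : X.Opens} (r : Γ(X, V)) (a : Γ(pushSum Z L, V)) :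
    comp Z L i V (r • a) = (Z i).subschemeι.app V r • comp Z L i V a :=
  app_smul' (biproduct.π (fun i => (Scheme.Modules.pushforward (Z i).subschemeι).obj (L i)) i) r a

theorem sum_incl_comp (V : X.Opens) (a : Γ(pushSum Z L, V)) :
    a = ∑ i, incl Z L i V (comp Z L i V a) := by
  let ev : (pushSum Z L ⟶ pushSum Z L) →+ Γ(pushSum Z L, V) :=
    AddMonoidHom.mk' (fun φ => φ.app V a) fun φ ψ => rfl
  have e := congrArg ev
    (biproduct.total (f := fun i => (Scheme.Modules.pushforward (Z i).subschemeι).obj (L i)))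
  rw [map_sum] at e
  exact e.symm

theorem subsingleton_preimage_empty (i : Fin n) {V : X.Opens} (h : ∀ x ∈ V, x ∉ (Z i).support) :
    Subsingleton Γ(L i, (Z i).subschemeι ⁻¹ᵁ V) := by
  refine ⟨fun a b => TopCat.Presheaf.section_ext ⟨(L i).presheaf, (L i).isSheaf⟩ _ _ _ fun z hz => ?_⟩
  exact absurd ((Z i).range_subschemeι.le (Set.mem_range_self z)) (h _ hz)

/-- Where only one closed subscheme is present, a frame of it is a frame of the sum. -/
theorem isFrame_pushSum [IsReduced X] (hcov : ⋃ i, ((Z i).support : Set X) = Set.univ) {V : X.Opens} (j : Fin n)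
    (hV : ∀ i, i ≠ j → ∀ x ∈ V, x ∉ (Z i).support) (a : Γ(pushSum Z L, V))
    (ha : IsFrame (L j) (comp Z L j V a)) : IsFrame (pushSum Z L) a := by
  have hb : ∀ W ≤ V, Function.Bijective ((Z j).subschemeι.app W) := by
    have : Surjective ((Z j).subschemeι ∣_ V) := ⟨fun x => by
      obtain ⟨i, hi⟩ := Set.mem_iUnion.1 (hcov.ge (Set.mem_univ x.1))
      have hij : i = j := by_contra fun h => hV i h x.1 x.2 hi
      subst hij
      obtain ⟨z, hz⟩ := (Z i).range_subschemeι.ge hi
      refine ⟨⟨z, show (Z i).subschemeι z ∈ V from hz ▸ x.2⟩, ?_⟩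
      refine Subtype.ext ?_
      have e := congr($(morphismRestrict_ι (Z i).subschemeι V) (⟨z, show (Z i).subschemeι z ∈ V from hz ▸ x.2⟩ : ↥((Z i).subschemeι ⁻¹ᵁ V)))
      simp only [Scheme.Hom.comp_apply] at e
      exact e.trans hz⟩
    have : IsClosedImmersion ((Z j).subschemeι ∣_ V) := IsZariskiLocalAtTarget.restrict (P := @IsClosedImmersion) inferInstance V
    exact bijective_app_of_isIso _ (isIso_of_isClosedImmersion_of_surjective _)
  intro W hW
  have hW' : ∀ i, i ≠ j → ∀ x ∈ W, x ∉ (Z i).support := fun i hi x hx => hV i hi x (hW hx)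
  have hbij := (ha ((Z j).subschemeι ⁻¹ᵁ W) ((Z j).subschemeι.preimage_mono hW)).comp (hb W hW)
  have hinj : Function.Injective fun c : Γ(pushSum Z L, W) => comp Z L j W c := fun c c' e => by
    rw [sum_incl_comp Z L W c, sum_incl_comp Z L W c']
    refine Finset.sum_congr rfl fun i _ => ?_
    by_cases hi : i = j
    · subst hi; exact congrArg _ e
    · haveI := subsingleton_preimage_empty Z L i (hW' i hi)
      exact congrArg _ (Subsingleton.elim _ _)
  have hval : ∀ r : Γ(X, W), comp Z L j W (r • mres _ hW a) =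
      (Z j).subschemeι.app W r • mres (L j) ((Z j).subschemeι.preimage_mono hW) (comp Z L j V a) := fun r => by
    rw [comp_smul, comp_res]
  refine ⟨fun r r' e => hbij.1 ?_, fun c => ?_⟩
  · have e' := congrArg (fun c => comp Z L j W c) e
    simp only [hval] at e'
    exact e'
  · obtain ⟨r, hr⟩ := hbij.2 (comp Z L j W c)
    exact ⟨r, hinj ((hval r).trans hr)⟩

/-- Invertible modules on closed subschemes of a reduced scheme meeting in discrete sets glue. -/
theorem exists_glue_closed [IsReduced X] (hcov : ⋃ i, ((Z i).support : Set X) = Set.univ)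
    (hdisc : ∀ i j, i ≠ j → DiscreteTopology ↥(((Z i).support : Set X) ∩ ((Z j).support : Set X)))
    (hL : ∀ i, PicF.IsInvertible (L i)) :
    ∃ M : X.Modules, PicF.IsInvertible M ∧
      ∀ i, Nonempty ((Scheme.Modules.pullback (Z i).subschemeι).obj M ≅ L i) := by
  classical
  let P := {ij : Fin n × Fin n // ij.1 ≠ ij.2}
  let D : Set X := ⋃ ij : P, ((Z ij.1.1).support : Set X) ∩ ((Z ij.1.2).support : Set X)
  have hD : IsClosed D := isClosed_iUnion_of_finite fun ij =>
    (Z ij.1.1).support.isClosed.inter (Z ij.1.2).support.isClosed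
  let U : X.Opens := ⟨Dᶜ, hD.isOpen_compl⟩
  have hU : ∀ x ∈ U, ∀ i j, x ∈ (Z i).support → x ∈ (Z j).support → i = j := fun x hx i j hi hj =>
    by_contra fun h => hx (Set.mem_iUnion.2 ⟨⟨(i, j), h⟩, hi, hj⟩)
  have honly : ∀ y : X, ∃ O : X.Opens, y ∈ O ∧ ∀ z ∈ O, z ∈ D → z = y := by
    intro y
    have hij : ∀ ij : P, ∃ O : X.Opens, y ∈ O ∧
        ∀ z ∈ O, z ∈ ((Z ij.1.1).support : Set X) ∩ ((Z ij.1.2).support : Set X) → z = y := by
      intro ij
      let C : X.Opens := ⟨(((Z ij.1.1).support : Set X) ∩ ((Z ij.1.2).support : Set X))ᶜ,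
        ((Z ij.1.1).support.isClosed.inter (Z ij.1.2).support.isClosed).isOpen_compl⟩
      by_cases hy : y ∈ ((Z ij.1.1).support : Set X) ∩ ((Z ij.1.2).support : Set X)
      · obtain ⟨O, hyO, hO⟩ := exists_only C
          (by
            haveI := hdisc _ _ ij.2
            exact DiscreteTopology.of_subset ‹_› (compl_compl _).le)
          (fun h => h hy)
        exact ⟨O, hyO, fun z hz hz' => hO z hz fun h => h hz'⟩
      · exact ⟨C, hy, fun z hz hz' => absurd hz' hz⟩
    choose O hyO hO using hij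
    refine ⟨⟨⋂ ij, (O ij : Set X), isOpen_iInter_of_finite fun ij => (O ij).isOpen⟩,
      Set.mem_iInter.2 hyO, fun z hz hzD => ?_⟩
    obtain ⟨ij, hz'⟩ := Set.mem_iUnion.1 hzD
    exact hO ij z (Set.mem_iInter.1 hz ij) hz'
  -- neighbourhoods with frames of all the modules
  have hnhd : ∀ y : X, ∃ (W : X.Opens) (_ : y ∈ W), ∀ i, ∃ p : Γ(L i, (Z i).subschemeι ⁻¹ᵁ W), IsFrame (L i) p := by
    intro y
    choose W hyW p hp using fun i => exists_frame_fibre (Z i).subschemeι (hL i) y
    refine ⟨⟨⋂ i, (W i : Set X), isOpen_iInter_of_finite fun i => (W i).isOpen⟩, Set.mem_iInter.2 hyW,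
      fun i => ⟨_, (hp i).res ((Z i).subschemeι.preimage_mono fun z hz => Set.mem_iInter.1 hz i)⟩⟩
  have hloc : ∀ x ∈ U, ∃ (V : X.Opens) (_ : x ∈ V) (_ : V ≤ U) (j : Fin n) (a : Γ(pushSum Z L, V)),
      IsFrame (pushSum Z L) a ∧ IsFrame (L j) (comp Z L j V a) ∧ ∀ i, i ≠ j → ∀ z ∈ V, z ∉ (Z i).support := by
    intro x hx
    obtain ⟨j, hj⟩ := Set.mem_iUnion.1 (hcov.ge (Set.mem_univ x))
    obtain ⟨W, hxW, hW⟩ := hnhd x
    let R : X.Opens := ⟨(⋃ i : {i : Fin n // i ≠ j}, ((Z i.1).support : Set X))ᶜ,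
      (isClosed_iUnion_of_finite fun i : {i : Fin n // i ≠ j} => (Z i.1).support.isClosed).isOpen_compl⟩
    have hxR : x ∈ R := fun h => by
      obtain ⟨i, hi⟩ := Set.mem_iUnion.1 h
      exact i.2 (hU x hx i.1 j hi hj)
    let V := W ⊓ R ⊓ U
    have hV : ∀ i, i ≠ j → ∀ z ∈ V, z ∉ (Z i).support := fun i hi z hz h =>
      hz.1.2 (Set.mem_iUnion.2 ⟨⟨i, hi⟩, h⟩)
    obtain ⟨p, hp⟩ := hW j
    let b := mres (L j) ((Z j).subschemeι.preimage_mono (inf_le_left.trans inf_le_left : V ≤ W)) p
    have hc : comp Z L j V (incl Z L j V b) = b := by simp [comp_incl]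
    have hb : IsFrame (L j) (comp Z L j V (incl Z L j V b)) := hc.symm ▸ hp.res _
    exact ⟨V, ⟨⟨hxW, hxR⟩, hx⟩, inf_le_right, j, _, isFrame_pushSum Z L hcov j hV _ hb, hb, hV⟩
  have hch : ∀ y : ↥D, ∃ (W : X.Opens) (_ : y.1 ∈ W) (p : ∀ i, Γ(L i, (Z i).subschemeι ⁻¹ᵁ W)),
      (∀ i, IsFrame (L i) (p i)) ∧ ∀ z ∈ W, z ∉ U → z = y.1 := fun y => by
    obtain ⟨O, hyO, hO⟩ := honly y.1
    obtain ⟨W, hyW, hW⟩ := hnhd y.1
    choose p hp using hW
    exact ⟨W ⊓ O, ⟨hyW, hyO⟩, _, fun i => (hp i).res ((Z i).subschemeι.preimage_mono inf_le_left),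
      fun z hz hzU => hO z hz.2 (not_not.1 hzU)⟩
  choose W hyW p hp hWonly using hch
  let e : ∀ y : ↥D, Γ(pushSum Z L, W y ⊓ U) := fun y =>
    ∑ i, incl Z L i (W y ⊓ U) (mres (L i) ((Z i).subschemeι.preimage_mono inf_le_left) (p y i))
  have hcomp : ∀ y i, comp Z L i (W y ⊓ U) (e y) =
      mres (L i) ((Z i).subschemeι.preimage_mono inf_le_left) (p y i) := fun y i => by
    have h := map_sum ((biproduct.π (fun i => (Scheme.Modules.pushforward (Z i).subschemeι).obj (L i)) i).app
      (W y ⊓ U)).hom (fun k => incl Z L k (W y ⊓ U)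
        (mres (L k) ((Z k).subschemeι.preimage_mono inf_le_left) (p y k))) Finset.univ
    refine h.trans ?_
    rw [Finset.sum_eq_single i]
    · exact (comp_incl Z L i i _ _).trans (by simp)
    · intro k _ hk
      exact (comp_incl Z L k i _ _).trans (dif_neg hk)
    · exact fun h => absurd (Finset.mem_univ i) h
  have hframe : ∀ y, IsFrame (pushSum Z L) (e y) := fun y => isFrame_of_cover _ fun x hx => by
    obtain ⟨V, hxV, hVU, j, a, -, -, hV⟩ := hloc x hx.2
    refine ⟨W y ⊓ U ⊓ V, ⟨hx, hxV⟩, inf_le_left,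
      isFrame_pushSum Z L hcov j (fun i hi z (hz : z ∈ W y ⊓ U ⊓ V) => hV i hi z hz.2) _ ?_⟩
    rw [← comp_res, hcomp, mres_mres]
    exact (hp y j).res _
  let d : Data X :=
    { M := pushSum Z L, U := U, ι := ↥D, W := W, e := e, frame := hframe
      cover := fun x => (em (x ∈ U)).imp id fun h => ⟨⟨x, not_not.1 h⟩, hyW ⟨x, not_not.1 h⟩⟩
      disj := fun i j hij z hz => not_not.1 fun hzU =>
        hij (Subtype.ext ((hWonly i z hz.1 hzU).symm.trans (hWonly j z hz.2 hzU))) }
  refine ⟨d.mod, d.isInvertible fun x hx => ?_, fun i => ?_⟩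
  · obtain ⟨V, hxV, hVU, j, a, ha, -, -⟩ := hloc x hx
    exact ⟨V, hxV, hVU, a, ha⟩
  let Dh : HomData d ((Scheme.Modules.pushforward (Z i).subschemeι).obj (L i)) :=
    { ρ := fun {V} _ =>
        ((biproduct.π (fun i => (Scheme.Modules.pushforward (Z i).subschemeι).obj (L i)) i).app V).hom
      res := fun {V V'} _ h a => comp_res Z L i h a
      smul := fun {V} _ r a => comp_smul Z L i r a
      p := fun y => p y i
      compat := fun y => hcomp y i }
  refine nonempty_pullback_iso (Z i).subschemeι (L i) d Dh (fun y => hp y i) fun x hx => ?_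
  obtain ⟨V, hxV, hVU, j, a, ha, ha', hV⟩ := hloc x hx
  refine ⟨V, hVU, hxV, a, ha, ?_⟩
  change IsFrame (L i) (comp Z L i V a)
  by_cases hij : i = j
  · subst hij; exact ha'
  · intro T hT
    haveI : Subsingleton Γ(L i, T) := ⟨fun s t => TopCat.Presheaf.section_ext ⟨(L i).presheaf, (L i).isSheaf⟩ _ _ _
      fun z hz => absurd ((Z i).range_subschemeι.le (Set.mem_range_self z)) (hV i hij _ (hT hz))⟩
    haveI : Subsingleton Γ((Z i).subscheme, T) := ⟨fun s t => TopCat.Presheaf.section_ext (Z i).subscheme.sheaf _ _ _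
      fun z hz => absurd ((Z i).range_subschemeι.le (Set.mem_range_self z)) (hV i hij _ (hT hz))⟩
    exact ⟨fun s t _ => Subsingleton.elim s t, fun b => ⟨0, Subsingleton.elim _ _⟩⟩

end Groth.Agent.ModGlue
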