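import Groth.Agent.ModGlue.Basic
import Groth.Agent.AssPts.Basic
import Mathlib.RingTheory.Ideal.KrullsHeightTheorem
import Mathlib.RingTheory.Ideal.Height

/-!
# Extending invertible modules across isolated points with one-dimensional local rings
-/

set_option autoImplicit false
set_option backward.isDefEq.respectTransparency false
set_option backward.isDefEq.respectTransparency.types false

noncomputable section

universe u v

open CategoryTheory AlgebraicGeometry Opposite TopologicalSpace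
open Groth.Agent.QCohBase Groth.Agent.GenLocus

namespace Groth.Agent.ModGlue

/-- Radical membership near a prime spreads to a basic neighbourhood. -/
theorem exists_sep {A : Type u} [CommRing A] (p : Ideal A) [p.IsPrime] (I : Ideal A) (g : A)
    (h : ∀ q : Ideal A, q.IsPrime → q ≤ p → I ≤ q → g ∈ q) :
    ∃ s ∉ p, ∀ q : Ideal A, q.IsPrime → s ∉ q → I ≤ q → g ∈ q := by
  obtain ⟨s, hs, n, hn⟩ : ∃ s, s ∉ p ∧ ∃ n : ℕ, s * g ^ n ∈ I := by
    by_contra! hno
    have hdisj : Disjoint (I : Set A) ((p.primeCompl ⊔ Submonoid.powers g : Submonoid A) : Set A) := by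
      rw [Set.disjoint_left]
      intro a ha ha'
      obtain ⟨s, hs, _, ⟨n, rfl⟩, rfl⟩ := Submonoid.mem_sup.1 ha'
      exact hno s hs n ha
    obtain ⟨q, hq, hIq, hqd⟩ := Ideal.exists_le_prime_disjoint I _ hdisj
    have hqp : q ≤ p := fun a ha => by
      by_contra hap
      exact Set.disjoint_left.1 hqd ha (Submonoid.mem_sup_left hap)
    exact Set.disjoint_left.1 hqd (h q hq hqp hIq) (Submonoid.mem_sup_right (Submonoid.mem_powers g))
  exact ⟨s, hs, fun q hq hsq hIq => hq.mem_of_pow_mem n ((hq.mem_or_mem (hIq hn)).resolve_left hsq)⟩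

variable {X : Scheme.{u}}

/-- Being a frame is local. -/
theorem isFrame_of_cover {M : X.Modules} {B : X.Opens} (e : Γ(M, B))
    (h : ∀ x ∈ B, ∃ (V : X.Opens) (_ : x ∈ V) (hV : V ≤ B), IsFrame M (mres M hV e)) : IsFrame M e := by
  intro V hV
  have h' : ∀ x : V, ∃ (T : X.Opens) (_ : x.1 ∈ T) (hT : T ≤ V), IsFrame M (mres M (hT.trans hV) e) := fun x => by
    obtain ⟨T, hxT, hT, hf⟩ := h x.1 (hV x.2)
    refine ⟨T ⊓ V, ⟨hxT, x.2⟩, inf_le_right, ?_⟩
    have := hf.res (inf_le_left : T ⊓ V ≤ T)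
    rwa [mres_mres] at this
  choose T hxT hT hfr using h'
  have hinj : ∀ (x : V) (T' : X.Opens) (h1 : T' ≤ T x) (r r' : Γ(X, T')),
      r • mres M (h1.trans ((hT x).trans hV)) e = r' • mres M (h1.trans ((hT x).trans hV)) e → r = r' := by
    intro x T' h1 r r' e'
    refine (hfr x T' h1).1 ?_
    simpa only [mres_mres] using e'
  refine ⟨fun r r' e' => ?_, fun m => ?_⟩
  · refine TopCat.Presheaf.section_ext X.sheaf _ _ _ fun x hx => ?_
    have e2 := congrArg (mres M (hT ⟨x, hx⟩)) e'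
    simp only [mres_smul, mres_mres] at e2
    have e3 := congrArg (X.presheaf.germ (T ⟨x, hx⟩) x (hxT ⟨x, hx⟩)) (hinj _ _ le_rfl _ _ e2)
    erw [TopCat.Presheaf.germ_res_apply, TopCat.Presheaf.germ_res_apply] at e3
    exact e3
  · choose r hr using fun x : V => (hfr x (T x) le_rfl).2 (mres M (hT x) m)
    simp only [mres_mres] at hr
    obtain ⟨g, hg, -⟩ := X.sheaf.existsUnique_gluing' T V (fun x => homOfLE (hT x))
      (fun x hx => Opens.mem_iSup.2 ⟨⟨x, hx⟩, hxT ⟨x, hx⟩⟩) r fun x y => by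
        refine hinj x (T x ⊓ T y) inf_le_left _ _ ?_
        have e1 := congrArg (mres M (inf_le_left : T x ⊓ T y ≤ T x)) (hr x)
        have e2 := congrArg (mres M (inf_le_right : T x ⊓ T y ≤ T y)) (hr y)
        simp only [mres_smul, mres_mres] at e1 e2
        exact e1.trans e2.symm
    let g' : Γ(X, V) := g
    refine ⟨g', TopCat.Sheaf.eq_of_locally_eq' (⟨M.presheaf, M.isSheaf⟩ : TopCat.Sheaf Ab.{u} X) T V
      (fun x => homOfLE (hT x)) (fun x hx => Opens.mem_iSup.2 ⟨⟨x, hx⟩, hxT ⟨x, hx⟩⟩) _ _ fun x => ?_⟩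
    change mres M (hT x) (g' • mres M hV e) = mres M (hT x) m
    rw [mres_smul, mres_mres, ← hr x]
    exact congrArg (· • _) (hg x)

/-- Frames on pairwise disjoint opens glue. -/
theorem exists_frame_disjoint {M : X.Modules} {B : X.Opens} {κ : Type v} [Small.{u} κ] (V : κ → X.Opens)
    (hV : ∀ k, V k ≤ B) (hcov : ∀ x ∈ B, ∃ k, x ∈ V k) (hdisj : ∀ k l, k ≠ l → V k ⊓ V l = ⊥)
    (hfr : ∀ k, ∃ e : Γ(M, V k), IsFrame M e) : ∃ e : Γ(M, B), IsFrame M e := by
  choose e he using hfr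
  let σ := equivShrink.{u} κ
  obtain ⟨g, hg, -⟩ := TopCat.Sheaf.existsUnique_gluing' (⟨M.presheaf, M.isSheaf⟩ : TopCat.Sheaf Ab.{u} X)
    (fun k : Shrink.{u} κ => V (σ.symm k)) B (fun k => homOfLE (hV _))
    (fun x hx => by
      obtain ⟨k, hk⟩ := hcov x hx
      exact Opens.mem_iSup.2 ⟨σ k, by simpa using hk⟩) (fun k => e _) fun k l => by
      by_cases hkl : k = l
      · subst hkl; rfl
      · refine TopCat.Presheaf.section_ext (⟨M.presheaf, M.isSheaf⟩ : TopCat.Sheaf Ab.{u} X) _ _ _ fun x hx => ?_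
        exact absurd ((hdisj _ _ fun h => hkl (σ.symm.injective h)).le hx) (fun h => h)
  refine ⟨g, isFrame_of_cover g fun x hx => ?_⟩
  obtain ⟨k, hk⟩ := hcov x hx
  obtain ⟨k, rfl⟩ := σ.symm.surjective k
  refine ⟨_, hk, hV _, ?_⟩
  have e' : mres M (hV (σ.symm k)) g = e (σ.symm k) := hg k
  rw [e']
  exact he _

/-- Nonmaximal primes below a prime with Noetherian local ring of dimension at most one are finitely
many and incomparable. -/
theorem finite_below {A S : Type u} [CommRing A] [CommRing S] [Algebra A S] (p : Ideal A) [p.IsPrime]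
    [IsLocalization.AtPrime S p] [IsNoetherianRing S] (hdim : ringKrullDim S ≤ 1) :
    {q : Ideal A | q.IsPrime ∧ q ≤ p ∧ q ≠ p}.Finite ∧
      ∀ q r : Ideal A, q.IsPrime → r.IsPrime → r ≤ p → r ≠ p → q ≤ r → q = r := by
  have : IsLocalRing S := IsLocalization.AtPrime.isLocalRing S p
  have key : ∀ r : Ideal A, r.IsPrime → r ≤ p → r ≠ p → r.map (algebraMap A S) ∈ minimalPrimes S ∧
      (r.map (algebraMap A S)).comap (algebraMap A S) = r := by
    intro r hr hrp hne
    have hd : Disjoint (p.primeCompl : Set A) (r : Set A) := Set.disjoint_left.2 fun a ha ha' => ha (hrp ha')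
    have hcomap := IsLocalization.under_map_of_isPrime_disjoint p.primeCompl S hr hd
    have hprime := IsLocalization.isPrime_of_isPrime_disjoint p.primeCompl S r hr hd
    refine ⟨?_, hcomap⟩
    have hlt : r.map (algebraMap A S) < IsLocalRing.maximalIdeal S := by
      refine lt_of_le_of_ne (IsLocalRing.le_maximalIdeal hprime.ne_top) fun h => hne ?_
      rw [← hcomap, h]
      exact IsLocalization.AtPrime.comap_maximalIdeal S p
    have h1 := Ideal.height_strict_mono_of_isPrime_of_isPrime hlt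
    have h2 : (IsLocalRing.maximalIdeal S).height ≤ 1 := by
      have := IsLocalRing.maximalIdeal_height_eq_ringKrullDim (R := S)
      exact_mod_cast this.le.trans hdim
    exact Ideal.height_eq_zero_iff.1 (Order.lt_one_iff.1 (h1.trans_le h2))
  refine ⟨(((minimalPrimes.finite_of_isNoetherianRing S)).image (Ideal.comap (algebraMap A S))).subset
    fun r ⟨hr, hrp, hne⟩ => ⟨_, (key r hr hrp hne).1, (key r hr hrp hne).2⟩, fun q r hq hr hrp hne hqr => ?_⟩
  refine hqr.antisymm ?_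
  have hqne : q ≠ p := fun h => hne (hrp.antisymm (h ▸ hqr))
  have h1 := key r hr hrp hne
  have h2 := key q hq (hqr.trans hrp) hqne
  rw [← h1.2, ← h2.2]
  exact Ideal.comap_mono (h1.1.2 ⟨h2.1.1.1, bot_le⟩ (Ideal.map_mono hqr))

variable (U : X.Opens) [QuasiCompact U.ι]

/-- Near an isolated point of the complement with finitely many generisations the open is a basic open. -/
theorem exists_nhd_of_finite (hdisc : DiscreteTopology ↥((U : Set X)ᶜ)) {x : X} (hx : x ∉ U)
    (hfin : ∀ (W : X.Opens) (hW : IsAffineOpen W) (hxW : x ∈ W),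
      {q : Ideal Γ(X, W) | q.IsPrime ∧ q ≤ (hW.primeIdealOf ⟨x, hxW⟩).asIdeal ∧
        q ≠ (hW.primeIdealOf ⟨x, hxW⟩).asIdeal}.Finite) :
    ∃ (W : X.Opens) (_ : IsAffineOpen W) (_ : x ∈ W) (f : Γ(X, W)),
      (∀ z ∈ W, z ∉ U → z = x) ∧ W ⊓ U = X.basicOpen f := by
  classical
  obtain ⟨O, hO, hOx⟩ := isOpen_induced_iff.1 (isOpen_discrete ({⟨x, hx⟩} : Set ↥((U : Set X)ᶜ)))
  have hxO : x ∈ O := (Set.ext_iff.1 hOx ⟨x, hx⟩).2 rfl
  obtain ⟨_, ⟨W₀, hW₀, rfl⟩, hxW₀, hW₀O⟩ := X.isBasis_affineOpens.exists_subset_of_mem_open hxO hO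
  have honly : ∀ z ∈ W₀, z ∉ U → z = x := fun z hz hzU =>
    congrArg Subtype.val ((Set.ext_iff.1 hOx ⟨z, hzU⟩).1 (hW₀O hz))
  let A := Γ(X, W₀)
  let p := (hW₀.primeIdealOf ⟨x, hxW₀⟩).asIdeal
  have hQ := hfin W₀ hW₀ hxW₀
  obtain ⟨f, hfp, hfQ⟩ : ∃ f ∈ p, ∀ q ∈ hQ.toFinset, f ∉ q := by
    by_contra! hno
    have hsub : (p : Set A) ⊆ ⋃ q ∈ (hQ.toFinset : Set (Ideal A)), (q : Set A) := fun a ha => by
      obtain ⟨q, hq, haq⟩ := hno a ha
      exact Set.mem_iUnion₂.2 ⟨q, hq, haq⟩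
    obtain ⟨q, hq, hpq⟩ := (Ideal.subset_union_prime (f := fun q => q) ⊥ ⊥
      fun q hq _ _ => (hQ.mem_toFinset.1 hq).1).1 hsub
    exact (hQ.mem_toFinset.1 hq).2.2 ((hQ.mem_toFinset.1 hq).2.1.antisymm hpq)
  have hUc : IsCompact ((W₀ ⊓ U : X.Opens) : Set X) := by
    have := (QuasiCompact.isCompact_preimage (f := U.ι) (W₀ : Set X) W₀.isOpen hW₀.isCompact).image U.ι.continuous
    rwa [Set.image_preimage_eq_inter_range, Scheme.Opens.range_ι] at this
  choose g hgU hgy using fun y : ↥(W₀ ⊓ U) => hW₀.exists_basicOpen_le ⟨y.1, y.2.2⟩ y.2.1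
  obtain ⟨t, ht⟩ := hUc.elim_finite_subcover (fun y => ((X.basicOpen (g y) : X.Opens) : Set X))
    (fun y => (X.basicOpen (g y)).isOpen) fun y hy => Set.mem_iUnion.2 ⟨⟨y, hy⟩, hgy ⟨y, hy⟩⟩
  have hsep : ∀ y, ∃ s ∉ p, ∀ q : Ideal A, q.IsPrime → s ∉ q → Ideal.span {f} ≤ q → g y ∈ q := fun y => by
    refine exists_sep p _ _ fun q hq hqp hfq => ?_
    have hqe : q = p := by
      by_contra hne
      exact hfQ q (hQ.mem_toFinset.2 ⟨hq, hqp, hne⟩) (hfq (Ideal.mem_span_singleton_self f))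
    rw [hqe]
    exact not_not.1 fun h => hx (hgU y ((mem_basicOpen_iff_notMem_prime hW₀ x hxW₀ _).2 h))
  choose s hs hs' using hsep
  let σ := ∏ y ∈ t, s y
  have hσ : σ ∉ p := Submonoid.prod_mem p.primeCompl fun y _ => hs y
  refine ⟨X.basicOpen σ, hW₀.basicOpen σ, (mem_basicOpen_iff_notMem_prime hW₀ x hxW₀ _).2 hσ,
    ores (X.basicOpen_le σ) f, fun z hz => honly z (X.basicOpen_le σ hz), ?_⟩
  rw [show X.basicOpen (ores (X.basicOpen_le σ) f) = X.basicOpen σ ⊓ X.basicOpen f from Scheme.basicOpen_res ..]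
  ext z
  refine ⟨fun ⟨hz, hzU⟩ => ⟨hz, ?_⟩, fun ⟨hz, hzf⟩ => ⟨hz, ?_⟩⟩
  · have hzW : z ∈ W₀ := X.basicOpen_le σ hz
    obtain ⟨y, hyt, hzy⟩ := Set.mem_iUnion₂.1 (ht ⟨hzW, hzU⟩)
    change z ∈ X.basicOpen f
    rw [mem_basicOpen_iff_notMem_prime hW₀ z hzW]
    intro hfz
    have hz1 := (mem_basicOpen_iff_notMem_prime hW₀ z hzW _).1 hz
    refine (mem_basicOpen_iff_notMem_prime hW₀ z hzW _).1 hzy (hs' y _ inferInstance (fun h => hz1 ?_)
      ((Ideal.span_singleton_le_iff_mem _).2 hfz))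
    exact Ideal.mem_of_dvd _ (Finset.dvd_prod_of_mem s hyt) h
  · have hzW : z ∈ W₀ := X.basicOpen_le σ hz
    by_contra hzU
    obtain rfl := honly z hzW hzU
    exact (mem_basicOpen_iff_notMem_prime hW₀ z hzW _).1 hzf hfp

/-- Near an isolated point of the complement with one-dimensional local ring the open is a basic open. -/
theorem exists_nhd (hdisc : DiscreteTopology ↥((U : Set X)ᶜ)) {x : X} (hx : x ∉ U)
    (hN : IsNoetherianRing (X.presheaf.stalk x)) (hdim : ringKrullDim (X.presheaf.stalk x) ≤ 1) :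
    ∃ (W : X.Opens) (_ : IsAffineOpen W) (_ : x ∈ W) (f : Γ(X, W)),
      (∀ z ∈ W, z ∉ U → z = x) ∧ W ⊓ U = X.basicOpen f := by
  refine exists_nhd_of_finite U hdisc hx fun W hW hxW => ?_
  letI := (X.presheaf.germ W x hxW).hom.toAlgebra
  haveI : IsLocalization.AtPrime (X.presheaf.stalk x) (hW.primeIdealOf ⟨x, hxW⟩).asIdeal :=
    hW.isLocalization_stalk ⟨x, hxW⟩
  exact (finite_below (S := X.presheaf.stalk x) _ hdim).1

/-- A module with local frames on the basic open has a frame near the point. -/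
theorem exists_frame_nhd {x : X} (hx : x ∉ U) (hN : IsNoetherianRing (X.presheaf.stalk x))
    (hdim : ringKrullDim (X.presheaf.stalk x) ≤ 1) {W : X.Opens} (hW : IsAffineOpen W) (hxW : x ∈ W)
    (f : Γ(X, W)) (hWU : W ⊓ U = X.basicOpen f) (M : X.Modules)
    (hM : ∀ y ∈ U, ∃ (V : X.Opens) (_ : y ∈ V) (_ : V ≤ U) (a : Γ(M, V)), IsFrame M a) :
    ∃ (W' : X.Opens) (_ : IsAffineOpen W') (_ : x ∈ W') (_ : W' ≤ W) (e : Γ(M, W' ⊓ U)), IsFrame M e := by
  classical
  let A := Γ(X, W)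
  let p := (hW.primeIdealOf ⟨x, hxW⟩).asIdeal
  letI := (X.presheaf.germ W x hxW).hom.toAlgebra
  haveI : IsLocalization.AtPrime (X.presheaf.stalk x) p := hW.isLocalization_stalk ⟨x, hxW⟩
  obtain ⟨hQ, hinc⟩ := finite_below (S := X.presheaf.stalk x) p hdim
  have hfp : f ∈ p := not_not.1 fun h =>
    hx (hWU.ge ((mem_basicOpen_iff_notMem_prime hW x hxW f).2 h)).2
  let Q : Finset (Ideal A) := hQ.toFinset.filter fun q => f ∉ q
  have hQ' : ∀ q : Ideal A, q ∈ Q ↔ q.IsPrime ∧ q ≤ p ∧ f ∉ q := fun q => by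
    simp only [Q, Finset.mem_filter, Set.Finite.mem_toFinset, Set.mem_setOf_eq]
    exact ⟨fun h => ⟨h.1.1, h.1.2.1, h.2⟩, fun h => ⟨⟨h.1, h.2.1, fun e => h.2.2 (e ▸ hfp)⟩, h.2.2⟩⟩
  -- generators of disjoint neighbourhoods
  have hloc : ∀ q : Q, ∃ g : A, g ∉ q.1 ∧ (∀ r ∈ Q, r ≠ q.1 → g ∈ r) ∧ (X.basicOpen g ≤ X.basicOpen f) ∧
      ∃ a : Γ(M, X.basicOpen g), IsFrame M a := by
    intro q
    obtain ⟨hq, hqp, hfq⟩ := (hQ' q.1).1 q.2
    obtain ⟨y, hy, hyq⟩ := AssPts.exists_point hW q.1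
    have hyU : y ∈ U := (hWU.ge ((mem_basicOpen_iff_notMem_prime hW y hy f).2 (hyq ▸ hfq))).2
    obtain ⟨V, hyV, -, a, ha⟩ := hM y hyU
    obtain ⟨h, hh, hhy⟩ := hW.exists_basicOpen_le (V := V) ⟨y, hyV⟩ hy
    have hu : ∀ r : Ideal A, ∃ c, r ∈ Q → r ≠ q.1 → c ∈ r ∧ c ∉ q.1 := fun r => by
      by_cases hr : r ∈ Q ∧ r ≠ q.1
      · obtain ⟨c, hc, hc'⟩ := SetLike.not_le_iff_exists.1 fun hle : r ≤ q.1 =>
          hr.2 (hinc r q.1 ((hQ' r).1 hr.1).1 hq hqp (fun e => hfq (e ▸ hfp)) hle)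
        exact ⟨c, fun _ _ => ⟨hc, hc'⟩⟩
      · exact ⟨0, fun h1 h2 => absurd ⟨h1, h2⟩ hr⟩
    choose c hc using hu
    refine ⟨f * h * ∏ r ∈ Q.erase q.1, c r, ?_, fun r hr hne => ?_, ?_, ?_⟩
    · refine fun hm => (hq.mem_or_mem hm).elim (fun hm => (hq.mem_or_mem hm).elim hfq ?_) fun hm => ?_
      · have := (mem_basicOpen_iff_notMem_prime hW y hy h).1 hhy
        rwa [hyq] at this
      · obtain ⟨r, hr, hcr⟩ := (Ideal.IsPrime.prod_mem_iff (hp := hq)).1 hm
        exact (hc r (Finset.mem_of_mem_erase hr) (Finset.ne_of_mem_erase hr)).2 hcr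
    · refine Ideal.mul_mem_left _ _ ?_
      rw [← Finset.mul_prod_erase _ c (Finset.mem_erase.2 ⟨hne, hr⟩)]
      exact Ideal.mul_mem_right _ _ (hc r hr hne).1
    · rw [Scheme.basicOpen_mul, Scheme.basicOpen_mul]
      exact inf_le_left.trans inf_le_left
    · have hle : X.basicOpen (f * h * ∏ r ∈ Q.erase q.1, c r) ≤ V := by
        rw [Scheme.basicOpen_mul, Scheme.basicOpen_mul]
        exact (inf_le_left.trans inf_le_right).trans hh
      exact ⟨_, ha.res hle⟩
  choose g hgq hgr hgf hga using hloc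
  have hpair : ∀ z : Q × Q, ∃ s ∉ p, z.1 ≠ z.2 → ∀ r : Ideal A, r.IsPrime → s ∉ r → g z.1 * g z.2 ∈ r := by
    intro z
    by_cases hz : z.1 = z.2
    · exact ⟨1, (hW.primeIdealOf ⟨x, hxW⟩).isPrime.one_notMem, fun h => absurd hz h⟩
    obtain ⟨s, hs, hs'⟩ := exists_sep p ⊥ (g z.1 * g z.2) fun r hr hrp _ => by
      by_cases hfr : f ∈ r
      · obtain ⟨y, hy, hyr⟩ := AssPts.exists_point hW r
        refine Ideal.mul_mem_right _ _ (not_not.1 fun h => ?_)
        have := hgf z.1 ((mem_basicOpen_iff_notMem_prime hW y hy _).2 (hyr ▸ h))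
        exact (mem_basicOpen_iff_notMem_prime hW y hy _).1 this (hyr ▸ hfr)
      · have hrQ : r ∈ Q := (hQ' r).2 ⟨hr, hrp, hfr⟩
        by_cases h1 : r = z.1.1
        · exact Ideal.mul_mem_left _ _ (hgr z.2 r hrQ fun h2 => hz (Subtype.ext (h1.symm.trans h2)))
        · exact Ideal.mul_mem_right _ _ (hgr z.1 r hrQ h1)
    exact ⟨s, hs, fun _ r hr hsr => hs' r hr hsr bot_le⟩
  choose sd hsd hsd' using hpair
  obtain ⟨sc, hsc, hsc'⟩ := exists_sep p (Ideal.span (Set.range g)) f fun r hr hrp hle => by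
    by_contra hfr
    exact hgq ⟨r, (hQ' r).2 ⟨hr, hrp, hfr⟩⟩ (hle (Ideal.subset_span ⟨_, rfl⟩))
  let σ := sc * ∏ z : Q × Q, sd z
  have hσ : σ ∈ p.primeCompl := p.primeCompl.mul_mem hsc (Submonoid.prod_mem _ fun z _ => hsd z)
  refine ⟨X.basicOpen σ, hW.basicOpen σ, (mem_basicOpen_iff_notMem_prime hW x hxW _).2 hσ, X.basicOpen_le σ,
    exists_frame_disjoint (fun q : Q => X.basicOpen σ ⊓ X.basicOpen (g q)) (fun q => ?_) (fun z hz => ?_)
      (fun k l hkl => ?_) fun q => ?_⟩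
  · exact inf_le_inf_left _ ((hgf q).trans (hWU.ge.trans inf_le_right))
  · have hzW : z ∈ W := X.basicOpen_le σ hz.1
    have hz1 := (mem_basicOpen_iff_notMem_prime hW z hzW _).1 hz.1
    have hzf := (mem_basicOpen_iff_notMem_prime hW z hzW f).1 (hWU.le ⟨hzW, hz.2⟩)
    by_contra! hno
    refine hzf (hsc' _ inferInstance (fun h => hz1 (Ideal.mul_mem_right _ _ h)) (Ideal.span_le.2 ?_))
    rintro _ ⟨q, rfl⟩
    exact not_not.1 fun h => hno q ⟨hz.1, (mem_basicOpen_iff_notMem_prime hW z hzW _).2 h⟩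
  · refine le_bot_iff.1 fun z ⟨⟨hz, hzk⟩, _, hzl⟩ => ?_
    have hzW : z ∈ W := X.basicOpen_le σ hz
    have hz1 := (mem_basicOpen_iff_notMem_prime hW z hzW _).1 hz
    exfalso
    refine (Ideal.IsPrime.mem_or_mem inferInstance (hsd' (k, l) hkl _ inferInstance fun h => hz1 ?_)).elim
      ((mem_basicOpen_iff_notMem_prime hW z hzW _).1 hzk) ((mem_basicOpen_iff_notMem_prime hW z hzW _).1 hzl)
    exact Ideal.mul_mem_left _ _ (Ideal.mem_of_dvd _ (Finset.dvd_prod_of_mem sd (Finset.mem_univ _)) h)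
  · obtain ⟨a, ha⟩ := hga q
    exact ⟨_, ha.res inf_le_right⟩

variable (hdisc : DiscreteTopology ↥((U : Set X)ᶜ))
  (hloc : ∀ x : X, x ∉ U → IsNoetherianRing (X.presheaf.stalk x) ∧ ringKrullDim (X.presheaf.stalk x) ≤ 1)

include hdisc hloc in
/-- An open with isolated complement of this kind is the locus of generation of a section. -/
theorem exists_genLocus_eq :
    ∃ (L : X.Modules) (s : Coh.structureModule X ⟶ L), PicF.IsInvertible L ∧ CohB1.genLocus L s = U := by
  classical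
  choose W hW hxW f honly hWU using fun x : ↥((U : Set X)ᶜ) =>
    exists_nhd U hdisc x.2 (hloc x.1 x.2).1 (hloc x.1 x.2).2
  have hu : ∀ x, IsUnit (ores (inf_le_left : W x ⊓ U ≤ W x) (f x)) := fun x => by
    have h := RingedSpace.isUnit_res_basicOpen X.toRingedSpace (f x)
    have h' := h.map (ores (hWU x).le)
    erw [ores_ores] at h'
    exact h'
  let inv : ∀ x, Γ(X, W x ⊓ U) := fun x => ((hu x).unit⁻¹ : (Γ(X, W x ⊓ U))ˣ)
  have hinv : ∀ x, IsFrame (Coh.structureModule X) (U := W x ⊓ U) (inv x : Γ(Coh.structureModule X, W x ⊓ U)) := by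
    intro x V hV
    have hv : IsUnit (ores hV (inv x)) := (Units.isUnit _).map _
    change Function.Bijective fun r : Γ(X, V) => r * ores hV (inv x)
    exact hv.unit.mulRight.bijective
  let d : Data X :=
    { M := Coh.structureModule X, U := U, ι := ↥((U : Set X)ᶜ), W := W
      e := fun x => inv x
      frame := hinv
      cover := fun x => (em (x ∈ U)).imp id fun h => ⟨⟨x, h⟩, hxW ⟨x, h⟩⟩
      disj := fun i j hij z hz => not_not.1 fun hzU =>
        hij (Subtype.ext ((honly i z hz.1 hzU).symm.trans (honly j z hz.2 hzU))) }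
  have hone : IsFrame (Coh.structureModule X) (U := U) (1 : Γ(X, U)) := fun V hV => by
    change Function.Bijective fun r : Γ(X, V) => r * ores hV 1
    simp only [map_one, mul_one]
    exact Function.bijective_id
  let S : Γ(d.mod, ⊤) := ⟨fun z => if h : z.1 ∈ U
      then ((Coh.structureModule X).presheaf.germ U z.1 h (1 : Γ(X, U)), 0)
      else (0, X.presheaf.germ (W ⟨z.1, h⟩) z.1 (hxW _) (f ⟨z.1, h⟩)), fun z => by
    by_cases hz : z.1 ∈ U
    · exact ⟨U, hz, homOfLE le_top, Or.inl ⟨le_rfl, (1 : Γ(X, U)), fun y => dif_pos y.2⟩⟩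
    · refine ⟨W ⟨z.1, hz⟩, hxW ⟨z.1, hz⟩, homOfLE le_top, Or.inr ⟨⟨z.1, hz⟩, le_rfl, f ⟨z.1, hz⟩, fun y => ?_⟩⟩
      by_cases hy : y.1 ∈ U
      · refine (dif_pos hy).trans ?_
        simp only [Data.chartVal]
        rw [dif_pos hy]
        refine Prod.ext ?_ rfl
        change (Coh.structureModule X).presheaf.germ U y.1 hy (1 : Γ(X, U)) = _
        have e1 : (ores (inf_le_left : W ⟨z.1, hz⟩ ⊓ U ≤ _) (f ⟨z.1, hz⟩) • (inv ⟨z.1, hz⟩ :
            Γ(Coh.structureModule X, W ⟨z.1, hz⟩ ⊓ U))) =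
            mres (Coh.structureModule X) inf_le_right (1 : Γ(X, U)) := by
          change ores _ _ * inv _ = ores _ 1
          rw [map_one]
          exact (hu _).mul_val_inv
        have e2 := congrArg ((Coh.structureModule X).presheaf.germ (W ⟨z.1, hz⟩ ⊓ U) y.1 ⟨y.2, hy⟩) e1
        erw [Mero.germ_smul, TopCat.Presheaf.germ_res_apply, TopCat.Presheaf.germ_res_apply] at e2
        exact e2.symm
      · have hyz : y.1 = z.1 := honly ⟨z.1, hz⟩ y.1 y.2 hy
        refine (dif_neg hy).trans ?_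
        simp only [Data.chartVal]
        rw [dif_neg hy]
        obtain ⟨y, hyW⟩ := y
        obtain rfl : y = z.1 := hyz
        rfl⟩
  refine ⟨d.mod, homOfSection d.mod S, d.isInvertible fun y hy => ⟨U, hy, le_rfl, (1 : Γ(X, U)), hone⟩, ?_⟩
  refine Opens.ext (Set.ext fun y => ⟨fun hy => ?_, fun hy => ?_⟩)
  · by_contra hyU
    let i : d.ι := ⟨y, hyU⟩
    have hf : f i • d.gen i = sect (homOfSection d.mod S) (W i) := by
      rw [sect_homOfSection]
      refine Subtype.ext (funext fun z => ?_)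
      have h0 := d.smul_gen_apply i le_rfl (f i) z
      erw [mres_refl] at h0
      refine h0.trans ?_
      change _ = S.1 ⟨z.1, trivial⟩
      simp only [S, Data.chartVal]
      by_cases hz : z.1 ∈ U
      · rw [dif_pos hz, dif_pos hz]
        refine Prod.ext ?_ rfl
        have e1 : (ores (inf_le_left : W i ⊓ U ≤ _) (f i) • (inv i : Γ(Coh.structureModule X, W i ⊓ U))) =
            mres (Coh.structureModule X) inf_le_right (1 : Γ(X, U)) := by
          change ores _ _ * inv _ = ores _ 1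
          rw [map_one]
          exact (hu _).mul_val_inv
        have e2 := congrArg ((Coh.structureModule X).presheaf.germ (W i ⊓ U) z.1 ⟨z.2, hz⟩) e1
        erw [Mero.germ_smul, TopCat.Presheaf.germ_res_apply, TopCat.Presheaf.germ_res_apply] at e2
        exact e2
      · rw [dif_neg hz, dif_neg hz]
        obtain ⟨z, hzW⟩ := z
        obtain rfl : z = y := honly i z hzW hz
        rfl
    have h := genLocus_inf_eq_basicOpen (homOfSection d.mod S) (d.isFrame_gen i) hf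
    exact hyU ((hWU i).ge (h.le ⟨hy, hxW i⟩)).2
  · refine (mem_genLocus_iff _).2 ⟨U, hy, ?_⟩
    rw [sect_homOfSection, show mres d.mod (le_top : U ≤ ⊤) S = d.inside (le_refl U) (1 : Γ(X, U)) from
      Subtype.ext (funext fun z => dif_pos z.2)]
    intro V hV
    have hcomp : (fun r : Γ(X, V) => r • mres d.mod hV (d.inside (le_refl U) (1 : Γ(X, U)))) =
        d.inside (hV.trans le_rfl) ∘ fun r : Γ(X, V) => r • mres d.M hV (1 : Γ(X, U)) := funext fun r => by
      rw [d.inside_mres, Function.comp_apply, d.inside_smul]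
    rw [hcomp]
    exact (d.bijective_inside _).comp (hone V hV)

include hdisc hloc in
/-- Invertible modules on the open extend. -/
theorem exists_extend_invertible (N : (U : Scheme.{u}).Modules) (hN : PicF.IsInvertible N) :
    ∃ L : X.Modules, PicF.IsInvertible L ∧ Nonempty (L.restrict U.ι ≅ N) := by
  let M := (Scheme.Modules.pushforward U.ι).obj N
  have : IsIso ((Scheme.Modules.restrictAdjunction U.ι).counit.app N) := inferInstance
  have iso : M.restrict U.ι ≅ N := asIso ((Scheme.Modules.restrictAdjunction U.ι).counit.app N)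
  have hM : ∀ y ∈ U, ∃ (V : X.Opens) (_ : y ∈ V) (_ : V ≤ U) (a : Γ(M, V)), IsFrame M a := by
    intro y hy
    have hinv : PicF.IsInvertible (M.restrict U.ι) := fun z => by
      obtain ⟨V, hV, ⟨t⟩⟩ := hN z
      exact ⟨V, hV, ⟨(Scheme.Modules.restrictFunctor V.ι).mapIso iso ≪≫ t⟩⟩
    obtain ⟨V, -, hyV, -, a, ha⟩ := exists_isFrame hinv (x := (⟨y, hy⟩ : ↥U)) (W := ⊤) trivial
    refine ⟨U.ι ''ᵁ V, ⟨⟨y, hy⟩, hyV, rfl⟩, (U.ι.image_le_opensRange V).trans_eq U.opensRange_ι,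
      (M.restrictAppIso U.ι V).hom a, fun T hT => ?_⟩
    obtain ⟨T', rfl⟩ : ∃ T' : (U : Scheme.{u}).Opens, U.ι ''ᵁ T' = T :=
      ⟨U.ι ⁻¹ᵁ T, (U.ι.image_preimage_eq_opensRange_inf T).trans
        (by rw [Scheme.Opens.opensRange_ι]; exact inf_eq_right.mpr (hT.trans
          ((U.ι.image_le_opensRange V).trans_eq U.opensRange_ι)))⟩
    have hle : T' ≤ V := fun t ht => by
      obtain ⟨t', ht', e⟩ := hT ⟨t, ht, rfl⟩
      rwa [U.ι.isOpenEmbedding.injective e] at ht'
    have hr : ∀ r : Γ(X, U.ι ''ᵁ T'), r • mres M hT ((M.restrictAppIso U.ι V).hom a) =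
        (M.restrictAppIso U.ι T').hom ((U.ι.appIso T').hom r • mres (M.restrict U.ι) hle a) := fun r => by
      have e1 : (M.restrictAppIso U.ι T').hom ((U.ι.appIso T').hom r • mres (M.restrict U.ι) hle a) =
          (U.ι.appIso T').inv ((U.ι.appIso T').hom r) •
            (M.restrictAppIso U.ι T').hom (mres (M.restrict U.ι) hle a) :=
        ConcreteCategory.congr_hom (Scheme.Modules.smul_restrictAppIso_hom U.ι M T' ((U.ι.appIso T').hom r)) _
      have e2 : (M.restrictAppIso U.ι T').hom (mres (M.restrict U.ι) hle a) =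
          mres M hT ((M.restrictAppIso U.ι V).hom a) :=
        ConcreteCategory.congr_hom (Scheme.Modules.map_restrictAppIso_hom U.ι M (homOfLE hle).op) a
      rw [e1, e2, ← CommRingCat.comp_apply, Iso.hom_inv_id, CommRingCat.id_apply]
    rw [funext hr]
    exact (ConcreteCategory.bijective_of_isIso (M.restrictAppIso U.ι T').hom).comp
      ((ha T' hle).comp (ConcreteCategory.bijective_of_isIso (U.ι.appIso T').hom))
  have hch : ∀ x : ↥((U : Set X)ᶜ), ∃ (W : X.Opens) (_ : x.1 ∈ W) (e : Γ(M, W ⊓ U)),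
      IsFrame M e ∧ ∀ z ∈ W, z ∉ U → z = x.1 := fun x => by
    obtain ⟨W, hW, hxW, f, honly, hWU⟩ := exists_nhd U hdisc x.2 (hloc x.1 x.2).1 (hloc x.1 x.2).2
    obtain ⟨W', -, hxW', hle, e, he⟩ := exists_frame_nhd U x.2 (hloc x.1 x.2).1 (hloc x.1 x.2).2 hW hxW f hWU M hM
    exact ⟨W', hxW', e, he, fun z hz => honly z (hle hz)⟩
  choose W hxW e he honly using hch
  let d : Data X :=
    { M := M, U := U, ι := ↥((U : Set X)ᶜ), W := W, e := e, frame := he
      cover := fun x => (em (x ∈ U)).imp id fun h => ⟨⟨x, h⟩, hxW ⟨x, h⟩⟩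
      disj := fun i j hij z hz => not_not.1 fun hzU =>
        hij (Subtype.ext ((honly i z hz.1 hzU).symm.trans (honly j z hz.2 hzU))) }
  obtain ⟨e'⟩ := d.nonempty_restrict_iso
  exact ⟨d.mod, d.isInvertible hM, ⟨e' ≪≫ iso⟩⟩

end Groth.Agent.ModGlue
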