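import Groth.Agent.ModGlue.Basic
import Groth.Agent.GenLocus.PullTensor

/-!
# Morphisms out of a glued module, and inverse images
-/

set_option autoImplicit false
set_option backward.isDefEq.respectTransparency false
set_option backward.isDefEq.respectTransparency.types false

noncomputable section

universe u

open CategoryTheory AlgebraicGeometry Opposite TopologicalSpace
open Groth.Agent.QCohBase Groth.Agent.GenLocus

namespace Groth.Agent.ModGlue

variable {X : Scheme.{u}}

/-- The data of a morphism out of a glued module. -/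
structure HomData (d : Data X) (P : X.Modules) where
  /-- the map inside `U` -/
  ρ : ∀ {V : X.Opens}, V ≤ d.U → (Γ(d.M, V) →+ Γ(P, V))
  res : ∀ {V V' : X.Opens} (hV : V ≤ d.U) (h : V' ≤ V) (m : Γ(d.M, V)),
    mres P h (ρ hV m) = ρ (h.trans hV) (mres d.M h m)
  smul : ∀ {V : X.Opens} (hV : V ≤ d.U) (r : Γ(X, V)) (m : Γ(d.M, V)), ρ hV (r • m) = r • ρ hV m
  /-- the values at the generators -/
  p : ∀ i, Γ(P, d.W i)
  compat : ∀ i, ρ (inf_le_right : d.W i ⊓ d.U ≤ d.U) (d.e i) = mres P inf_le_left (p i)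

namespace Data

variable (d : Data X)

theorem gen_inside (i : d.ι) {V : X.Opens} (hW : V ≤ d.W i) (hU : V ≤ d.U) :
    mres d.mod hW (d.gen i) = d.inside hU (mres d.M (le_inf hW hU) (d.e i)) := by
  refine Subtype.ext (funext fun x => ?_)
  have h1 := d.smul_gen_apply i hW 1 x
  rw [one_smul] at h1
  refine h1.trans ?_
  rw [d.chart_to_U i hW hU, one_smul]
  rfl

end Data

namespace HomData

variable {d : Data X} {P : X.Modules} (D : HomData d P)

/-- The value inside `U`. -/
def valU (T : X.Opens) (σ : Γ(d.mod, T)) : Γ(P, T ⊓ d.U) :=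
  D.ρ inf_le_right (Function.surjInv (d.bijective_inside (inf_le_right : T ⊓ d.U ≤ d.U)).2
    (mres d.mod inf_le_left σ))

theorem valU_eq (T : X.Opens) (σ : Γ(d.mod, T)) (m : Γ(d.M, T ⊓ d.U))
    (h : mres d.mod inf_le_left σ = d.inside inf_le_right m) : D.valU T σ = D.ρ inf_le_right m := by
  rw [valU]
  congr 1
  refine (d.bijective_inside (inf_le_right : T ⊓ d.U ≤ d.U)).1 ?_
  exact (Function.surjInv_eq (f := d.inside (inf_le_right : T ⊓ d.U ≤ d.U)) _ _).trans h

theorem valU_spec (T : X.Opens) (σ : Γ(d.mod, T)) : ∃ m : Γ(d.M, T ⊓ d.U),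
    mres d.mod inf_le_left σ = d.inside inf_le_right m := by
  obtain ⟨m, hm⟩ := (d.bijective_inside (inf_le_right : T ⊓ d.U ≤ d.U)).2 (mres d.mod inf_le_left σ)
  exact ⟨m, hm.symm⟩

/-- The value on a chart. -/
def valW (i : d.ι) (T : X.Opens) (σ : Γ(d.mod, T)) : Γ(P, T ⊓ d.W i) :=
  Function.surjInv (d.isFrame_gen i _ (inf_le_right : T ⊓ d.W i ≤ d.W i)).2 (mres d.mod inf_le_left σ) •
    mres P inf_le_right (D.p i)

theorem valW_eq (i : d.ι) (T : X.Opens) (σ : Γ(d.mod, T)) (c : Γ(X, T ⊓ d.W i))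
    (h : mres d.mod inf_le_left σ = c • mres d.mod inf_le_right (d.gen i)) :
    D.valW i T σ = c • mres P inf_le_right (D.p i) := by
  rw [valW]
  congr 1
  refine (d.isFrame_gen i _ (inf_le_right : T ⊓ d.W i ≤ d.W i)).1 ?_
  exact (Function.surjInv_eq (f := fun r : Γ(X, T ⊓ d.W i) => r • mres d.mod inf_le_right (d.gen i)) _ _).trans h

theorem valW_spec (i : d.ι) (T : X.Opens) (σ : Γ(d.mod, T)) : ∃ c : Γ(X, T ⊓ d.W i),
    mres d.mod inf_le_left σ = c • mres d.mod inf_le_right (d.gen i) := by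
  obtain ⟨c, hc⟩ := (d.isFrame_gen i _ (inf_le_right : T ⊓ d.W i ≤ d.W i)).2 (mres d.mod inf_le_left σ)
  exact ⟨c, hc.symm⟩

/-- On the overlap with `U` the chart value is the inside value. -/
theorem compat_UW (i : d.ι) (T : X.Opens) (σ : Γ(d.mod, T)) {V : X.Opens}
    (h₁ : V ≤ T ⊓ d.U) (h₂ : V ≤ T ⊓ d.W i) : mres P h₁ (D.valU T σ) = mres P h₂ (D.valW i T σ) := by
  obtain ⟨m, hm⟩ := valU_spec T σ
  obtain ⟨c, hc⟩ := valW_spec i T σ
  rw [D.valU_eq T σ m hm, D.valW_eq i T σ c hc, D.res, mres_smul, mres_mres]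
  have hU : V ≤ d.U := h₁.trans inf_le_right
  have hW : V ≤ d.W i := h₂.trans inf_le_right
  have e1 : mres d.M h₁ m = ores h₂ c • mres d.M (le_inf hW hU) (d.e i) := by
    refine (d.bijective_inside hU).1 ?_
    have a := congrArg (mres d.mod h₁) hm
    have b := congrArg (mres d.mod h₂) hc
    rw [mres_mres, d.inside_mres] at a
    rw [mres_mres, mres_smul, mres_mres, d.gen_inside i hW hU, ← d.inside_smul] at b
    exact a.symm.trans b
  rw [e1, D.smul, ← D.res (inf_le_right : d.W i ⊓ d.U ≤ d.U) (le_inf hW hU) (d.e i), D.compat, mres_mres]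

/-- The cover by `U` and the charts. -/
def C (T : X.Opens) : Option d.ι → X.Opens
  | none => T ⊓ d.U
  | some i => T ⊓ d.W i

theorem C_le (T : X.Opens) : ∀ k, C (d := d) T k ≤ T
  | none => inf_le_left
  | some _ => inf_le_left

theorem le_iSup_C (T : X.Opens) : T ≤ ⨆ k, C (d := d) T k := fun x hx => by
  rcases d.cover x with h | ⟨i, h⟩
  · exact Opens.mem_iSup.2 ⟨none, hx, h⟩
  · exact Opens.mem_iSup.2 ⟨some i, hx, h⟩

/-- The values on the cover. -/
def val (T : X.Opens) (σ : Γ(d.mod, T)) : ∀ k, Γ(P, C (d := d) T k)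
  | none => D.valU T σ
  | some i => D.valW i T σ

theorem exists_unique_val (T : X.Opens) (σ : Γ(d.mod, T)) :
    ∃! n : Γ(P, T), ∀ k, mres P (C_le T k) n = D.val T σ k := by
  refine TopCat.Sheaf.existsUnique_gluing' (⟨P.presheaf, P.isSheaf⟩ : TopCat.Sheaf Ab.{u} X)
    (C T) T (fun k => homOfLE (C_le T k)) (le_iSup_C T) (D.val T σ) fun k l => ?_
  change mres P (inf_le_left : C T k ⊓ C T l ≤ C T k) (D.val T σ k) =
    mres P (inf_le_right : C T k ⊓ C T l ≤ C T l) (D.val T σ l)
  cases k with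
  | none =>
    cases l with
    | none => rfl
    | some j => exact D.compat_UW j T σ _ _
  | some i =>
    cases l with
    | none => exact (D.compat_UW i T σ _ _).symm
    | some j =>
      by_cases hij : i = j
      · subst hij; rfl
      · have h : C T (some i) ⊓ C T (some j) ≤ T ⊓ d.U := fun x hx =>
          ⟨hx.1.1, d.disj i j hij ⟨hx.1.2, hx.2.2⟩⟩
        exact (D.compat_UW i T σ h _).symm.trans (D.compat_UW j T σ h _)

/-- The components of the morphism. -/
def app (T : X.Opens) : Γ(d.mod, T) →+ Γ(P, T) where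
  toFun σ := (D.exists_unique_val T σ).choose
  map_zero' := by
    refine ((D.exists_unique_val T 0).choose_spec.2 0 fun k => ?_).symm
    rw [map_zero]
    cases k with
    | none => exact ((D.valU_eq T 0 0 (by rw [map_zero, map_zero])).trans (map_zero _)).symm
    | some i => exact ((D.valW_eq i T 0 0 (by rw [map_zero, zero_smul])).trans (zero_smul _ _)).symm
  map_add' σ τ := by
    refine ((D.exists_unique_val T (σ + τ)).choose_spec.2 _ fun k => ?_).symm
    rw [map_add, (D.exists_unique_val T σ).choose_spec.1 k, (D.exists_unique_val T τ).choose_spec.1 k]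
    cases k with
    | none =>
      obtain ⟨a, ha⟩ := valU_spec T σ
      obtain ⟨b, hb⟩ := valU_spec T τ
      change D.valU T σ + D.valU T τ = D.valU T (σ + τ)
      rw [D.valU_eq T σ a ha, D.valU_eq T τ b hb, D.valU_eq T (σ + τ) (a + b) (by rw [map_add, map_add, ha, hb]),
        map_add]
    | some i =>
      obtain ⟨a, ha⟩ := valW_spec i T σ
      obtain ⟨b, hb⟩ := valW_spec i T τ
      change D.valW i T σ + D.valW i T τ = D.valW i T (σ + τ)
      rw [D.valW_eq i T σ a ha, D.valW_eq i T τ b hb,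
        D.valW_eq i T (σ + τ) (a + b) (by rw [map_add, ha, hb, add_smul]), add_smul]

theorem app_spec (T : X.Opens) (σ : Γ(d.mod, T)) (k : Option d.ι) :
    mres P (C_le T k) (D.app T σ) = D.val T σ k :=
  (D.exists_unique_val T σ).choose_spec.1 k

theorem app_unique (T : X.Opens) (σ : Γ(d.mod, T)) (n : Γ(P, T))
    (h : ∀ k, mres P (C_le T k) n = D.val T σ k) : D.app T σ = n :=
  ((D.exists_unique_val T σ).choose_spec.2 n h).symm

theorem app_inside {V : X.Opens} (hV : V ≤ d.U) (m : Γ(d.M, V)) : D.app V (d.inside hV m) = D.ρ hV m := by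
  refine D.app_unique V _ _ fun k => ?_
  cases k with
  | none =>
    exact (D.res hV _ m).trans (D.valU_eq V _ _ (d.inside_mres hV inf_le_left m)).symm
  | some i =>
    obtain ⟨c, hc⟩ := valW_spec i V (d.inside hV m)
    change mres P (inf_le_left : V ⊓ d.W i ≤ V) (D.ρ hV m) = D.valW i V (d.inside hV m)
    rw [← mres_refl P le_rfl (D.valW i V (d.inside hV m)),
      ← D.compat_UW i V (d.inside hV m) (le_inf inf_le_left (inf_le_left.trans hV)) le_rfl,
      D.valU_eq V _ _ (d.inside_mres hV inf_le_left m), D.res, D.res, mres_mres]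

theorem app_gen (i : d.ι) : D.app (d.W i) (d.gen i) = D.p i := by
  refine D.app_unique (d.W i) _ _ fun k => ?_
  cases k with
  | none =>
    change mres P (inf_le_left : d.W i ⊓ d.U ≤ d.W i) (D.p i) = D.valU (d.W i) (d.gen i)
    rw [D.valU_eq (d.W i) _ _ (d.gen_inside i inf_le_left inf_le_right), mres_refl]
    exact (D.compat i).symm
  | some j =>
    change mres P (inf_le_left : d.W i ⊓ d.W j ≤ d.W i) (D.p i) = D.valW j (d.W i) (d.gen i)
    by_cases hij : i = j
    · subst hij
      rw [D.valW_eq i (d.W i) _ 1 (one_smul _ _).symm, one_smul]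
    · have hU : d.W i ⊓ d.W j ≤ d.U := d.disj i j hij
      rw [← mres_refl P le_rfl (D.valW j (d.W i) (d.gen i)),
        ← D.compat_UW j (d.W i) (d.gen i) (le_inf inf_le_left hU) le_rfl,
        D.valU_eq (d.W i) _ _ (d.gen_inside i inf_le_left inf_le_right), mres_refl, D.compat i, mres_mres]

theorem app_res (T T' : X.Opens) (h : T' ≤ T) (σ : Γ(d.mod, T)) :
    mres P h (D.app T σ) = D.app T' (mres d.mod h σ) := by
  refine (D.app_unique T' _ _ fun k => ?_).symm
  rw [mres_mres]
  cases k with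
  | none =>
    obtain ⟨m, hm⟩ := valU_spec T σ
    have e1 := congrArg (mres P (inf_le_inf_right d.U h)) (D.app_spec T σ none)
    erw [mres_mres] at e1
    refine e1.trans ?_
    change mres P _ (D.valU T σ) = D.valU T' (mres d.mod h σ)
    rw [D.valU_eq T σ m hm, D.res]
    refine (D.valU_eq T' _ _ ?_).symm
    rw [mres_mres, ← d.inside_mres inf_le_right (inf_le_inf_right d.U h), ← hm, mres_mres]
  | some i =>
    obtain ⟨c, hc⟩ := valW_spec i T σ
    have e1 := congrArg (mres P (inf_le_inf_right (d.W i) h)) (D.app_spec T σ (some i))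
    erw [mres_mres] at e1
    refine e1.trans ?_
    change mres P _ (D.valW i T σ) = D.valW i T' (mres d.mod h σ)
    rw [D.valW_eq i T σ c hc, mres_smul, mres_mres]
    refine (D.valW_eq i T' _ (ores (inf_le_inf_right (d.W i) h) c) ?_).symm
    have e2 := congrArg (mres d.mod (inf_le_inf_right (d.W i) h)) hc
    rw [mres_mres, mres_smul, mres_mres] at e2
    rw [mres_mres]
    exact e2

theorem app_smul (T : X.Opens) (r : Γ(X, T)) (σ : Γ(d.mod, T)) : D.app T (r • σ) = r • D.app T σ := by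
  refine D.app_unique T _ _ fun k => ?_
  rw [mres_smul, D.app_spec]
  cases k with
  | none =>
    obtain ⟨m, hm⟩ := valU_spec T σ
    change ores (inf_le_left : T ⊓ d.U ≤ T) r • D.valU T σ = D.valU T (r • σ)
    rw [D.valU_eq T σ m hm, ← D.smul]
    refine (D.valU_eq T _ _ ?_).symm
    rw [mres_smul, hm, d.inside_smul]
  | some i =>
    obtain ⟨c, hc⟩ := valW_spec i T σ
    change ores (inf_le_left : T ⊓ d.W i ≤ T) r • D.valW i T σ = D.valW i T (r • σ)
    rw [D.valW_eq i T σ c hc, smul_smul]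
    refine (D.valW_eq i T _ _ ?_).symm
    rw [mres_smul, hc, smul_smul]

/-- The morphism. -/
def hom : d.mod ⟶ P := modHomMk D.app D.app_res D.app_smul

theorem hom_app (T : X.Opens) (σ : Γ(d.mod, T)) : D.hom.app T σ = D.app T σ :=
  modHomMk_app D.app D.app_res D.app_smul T σ

end HomData

/-- A glued module pulls back to `L` when all its frames go to frames of `L`. -/
theorem nonempty_pullback_iso {Y : Scheme.{u}} (f : Y ⟶ X) (L : Y.Modules) (d : Data X)
    (D : HomData d ((Scheme.Modules.pushforward f).obj L))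
    (hp : ∀ i, IsFrame L (U := f ⁻¹ᵁ d.W i) (D.p i))
    (hρ : ∀ x ∈ d.U, ∃ (V : X.Opens) (hV : V ≤ d.U) (_ : x ∈ V) (a : Γ(d.M, V)),
      IsFrame d.M a ∧ IsFrame L (U := f ⁻¹ᵁ V) (D.ρ hV a)) :
    Nonempty ((Scheme.Modules.pullback f).obj d.mod ≅ L) := by
  let g : (Scheme.Modules.pullback f).obj d.mod ⟶ L :=
    ((Scheme.Modules.pullbackPushforwardAdjunction f).homEquiv _ _).symm D.hom
  have hg : ∀ (T : X.Opens) (σ : Γ(d.mod, T)), g.app _ (pullSec f d.mod T σ) = D.app T σ := by
    intro T σ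
    have h := Adjunction.homEquiv_unit (Scheme.Modules.pullbackPushforwardAdjunction f) d.mod _ g
    rw [show g = ((Scheme.Modules.pullbackPushforwardAdjunction f).homEquiv _ _).symm D.hom from rfl,
      Equiv.apply_symm_apply] at h
    exact ((congr($(congrArg (fun ψ ↦ Scheme.Modules.Hom.app ψ T) h) σ)).symm).trans (D.hom_app T σ)
  have : IsIso g := isIso_of_frames g fun y => by
    rcases d.cover (f y) with hy | ⟨i, hi⟩
    · obtain ⟨V, hV, hyV, a, ha, ha'⟩ := hρ (f y) hy
      have hfr : IsFrame d.mod (d.inside hV a) := fun V' h => by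
        have hcomp : (fun r : Γ(X, V') => r • mres d.mod h (d.inside hV a)) =
            d.inside (h.trans hV) ∘ fun r : Γ(X, V') => r • mres d.M h a := funext fun r => by
          rw [d.inside_mres, Function.comp_apply, d.inside_smul]
        rw [hcomp]
        exact (d.bijective_inside _).comp (ha V' h)
      refine ⟨f ⁻¹ᵁ V, hyV, _, hfr.pullSec f, ?_⟩
      rw [hg, D.app_inside]
      exact ha'
    · refine ⟨f ⁻¹ᵁ d.W i, hi, _, (d.isFrame_gen i).pullSec f, ?_⟩
      rw [hg, D.app_gen]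
      exact hp i
  exact ⟨asIso g⟩

/-- A glued module pulls back to `L` when all its frames go to frames of `L`. -/
theorem exists_pullback_iso {Y : Scheme.{u}} (f : Y ⟶ X) (L : Y.Modules) (d : Data X)
    (hM : ∀ x ∈ d.U, ∃ (V : X.Opens) (_ : x ∈ V) (_ : V ≤ d.U) (a : Γ(d.M, V)), IsFrame d.M a)
    (D : HomData d ((Scheme.Modules.pushforward f).obj L))
    (hp : ∀ i, IsFrame L (U := f ⁻¹ᵁ d.W i) (D.p i))
    (hρ : ∀ x ∈ d.U, ∃ (V : X.Opens) (hV : V ≤ d.U) (_ : x ∈ V) (a : Γ(d.M, V)),
      IsFrame d.M a ∧ IsFrame L (U := f ⁻¹ᵁ V) (D.ρ hV a)) :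
    ∃ N : X.Modules, PicF.IsInvertible N ∧ Nonempty ((Scheme.Modules.pullback f).obj N ≅ L) :=
  ⟨d.mod, d.isInvertible hM, nonempty_pullback_iso f L d D hp hρ⟩

end Groth.Agent.ModGlue
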