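import Groth.Agent.ModGlue.Hom
import Groth.Agent.ModGlue.DimOne
import Groth.Agent.GenLocus.TrivFinite
import Mathlib.AlgebraicGeometry.Morphisms.Finite
import Mathlib.AlgebraicGeometry.Morphisms.QuasiFinite
import Mathlib.AlgebraicGeometry.Morphisms.ClosedImmersion
import Mathlib.AlgebraicGeometry.Noetherian
import Mathlib.Topology.KrullDimension

/-!
# Invertible modules as inverse images along finite morphisms
-/

set_option autoImplicit false
set_option backward.isDefEq.respectTransparency false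
set_option backward.isDefEq.respectTransparency.types false

noncomputable section

universe u

open CategoryTheory AlgebraicGeometry Opposite TopologicalSpace
open Groth.Agent.QCohBase Groth.Agent.GenLocus

namespace Groth.Agent.ModGlue

variable {X Y : Scheme.{u}} (f : X ⟶ Y)

/-- An invertible module has a frame over a neighbourhood of a fibre of a finite morphism. -/
theorem exists_frame_fibre [IsFinite f] {L : X.Modules} (hL : PicF.IsInvertible L) (y : Y) :
    ∃ (W : Y.Opens) (_ : y ∈ W) (a : Γ(L, f ⁻¹ᵁ W)), IsFrame L a := by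
  obtain ⟨_, ⟨W₀, hW₀, rfl⟩, hy, -⟩ :=
    Y.isBasis_affineOpens.exists_subset_of_mem_open (Set.mem_univ y) isOpen_univ
  have hfin : (f ⁻¹' {y}).Finite := f.finite_preimage_singleton y
  obtain ⟨C, -, hTC, -, ⟨t⟩⟩ := exists_affine_triv_of_finite hL (hW₀.preimage f) hfin
    fun x hx => show f x ∈ W₀ from (show f x = y from hx) ▸ hy
  obtain ⟨a, ha⟩ := exists_isFrame_of_triv t
  let S : Set Y := f '' (C : Set X)ᶜ
  have hS : IsClosed S := f.isClosedMap _ C.isOpen.isClosed_compl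
  refine ⟨⟨Sᶜ, hS.isOpen_compl⟩, fun ⟨x, hx, hxy⟩ => hx (hTC hxy), _,
    ha.res (V := f ⁻¹ᵁ ⟨Sᶜ, hS.isOpen_compl⟩) fun x hx => ?_⟩
  by_contra hxC
  exact hx ⟨x, hxC, rfl⟩

/-- Where functions do not change, frames push forward to frames. -/
theorem isFrame_pushforward {L : X.Modules} {T : Y.Opens} (hb : ∀ V ≤ T, Function.Bijective (f.app V))
    (a : Γ(L, f ⁻¹ᵁ T)) (ha : IsFrame L a) :
    IsFrame ((Scheme.Modules.pushforward f).obj L) (U := T) (a : Γ((Scheme.Modules.pushforward f).obj L, T)) :=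
  fun V hV => (ha (f ⁻¹ᵁ V) (f.preimage_mono hV)).comp (hb V hV)

theorem bijective_app_of_isIso {U : Y.Opens} (hU : IsIso (f ∣_ U)) : ∀ V ≤ U, Function.Bijective (f.app V) := by
  intro V hV
  obtain ⟨V', rfl⟩ : ∃ V' : (U : Scheme.{u}).Opens, U.ι ''ᵁ V' = V :=
    ⟨U.ι ⁻¹ᵁ V, (U.ι.image_preimage_eq_opensRange_inf V).trans
      (by rw [Scheme.Opens.opensRange_ι]; exact inf_eq_right.mpr hV)⟩
  have h := ConcreteCategory.bijective_of_isIso ((f ∣_ U).app V')
  rw [morphismRestrict_app] at h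
  exact (Function.Bijective.of_comp_iff' (ConcreteCategory.bijective_of_isIso
    (X.presheaf.map (eqToHom (image_morphismRestrict_preimage f U V')).op)) _).1 h

theorem exists_only (U : Y.Opens) (hdisc : DiscreteTopology ↥((U : Set Y)ᶜ)) {y : Y} (hy : y ∉ U) :
    ∃ O : Y.Opens, y ∈ O ∧ ∀ z ∈ O, z ∉ U → z = y := by
  obtain ⟨O, hO, hOx⟩ := isOpen_induced_iff.1 (isOpen_discrete ({⟨y, hy⟩} : Set ↥((U : Set Y)ᶜ)))
  exact ⟨⟨O, hO⟩, (Set.ext_iff.1 hOx ⟨y, hy⟩).2 rfl, fun z hz hzU =>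
    congrArg Subtype.val ((Set.ext_iff.1 hOx ⟨z, hzU⟩).1 hz)⟩

/-- Finite morphism, isomorphism outside a discrete closed subset. -/
theorem exists_pullback_iso_of_isIso [IsFinite f] (U : Y.Opens) (hU : IsIso (f ∣_ U))
    (hdisc : DiscreteTopology ↥((U : Set Y)ᶜ)) (L : X.Modules) (hL : PicF.IsInvertible L) :
    ∃ N : Y.Modules, PicF.IsInvertible N ∧ Nonempty ((Scheme.Modules.pullback f).obj N ≅ L) := by
  let M := (Scheme.Modules.pushforward f).obj L
  have hb := bijective_app_of_isIso f hU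
  have hfr : ∀ y : Y, y ∈ U → ∃ (V : Y.Opens) (hV : V ≤ U) (_ : y ∈ V) (a : Γ(M, V)),
      IsFrame M a ∧ IsFrame L (U := f ⁻¹ᵁ V) a := by
    intro y hy
    obtain ⟨W, hyW, a, ha⟩ := exists_frame_fibre f hL y
    have ha' := ha.res (f.preimage_mono (inf_le_left : W ⊓ U ≤ W))
    exact ⟨W ⊓ U, inf_le_right, ⟨hyW, hy⟩, _,
      isFrame_pushforward f (fun V hV => hb V (hV.trans inf_le_right)) _ ha', ha'⟩
  have hch : ∀ y : ↥((U : Set Y)ᶜ), ∃ (W : Y.Opens) (_ : y.1 ∈ W) (a : Γ(L, f ⁻¹ᵁ W)),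
      IsFrame L a ∧ ∀ z ∈ W, z ∉ U → z = y.1 := fun y => by
    obtain ⟨W, hyW, a, ha⟩ := exists_frame_fibre f hL y.1
    obtain ⟨O, hyO, honly⟩ := exists_only U hdisc y.2
    exact ⟨W ⊓ O, ⟨hyW, hyO⟩, _, ha.res (f.preimage_mono (inf_le_left : W ⊓ O ≤ W)),
      fun z hz => honly z hz.2⟩
  choose W hyW a ha honly using hch
  let d : Data Y :=
    { M := M, U := U, ι := ↥((U : Set Y)ᶜ), W := W
      e := fun i => mres M (inf_le_left : W i ⊓ U ≤ W i) (a i)
      frame := fun i => isFrame_pushforward f (fun V hV => hb V (hV.trans inf_le_right)) _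
        ((ha i).res (f.preimage_mono (inf_le_left : W i ⊓ U ≤ W i)))
      cover := fun y => (em (y ∈ U)).imp id fun h => ⟨⟨y, h⟩, hyW ⟨y, h⟩⟩
      disj := fun i j hij z hz => not_not.1 fun hzU =>
        hij (Subtype.ext ((honly i z hz.1 hzU).symm.trans (honly j z hz.2 hzU))) }
  let D : HomData d M :=
    { ρ := fun {V} _ => AddMonoidHom.id Γ(M, V)
      res := fun _ _ _ => rfl
      smul := fun _ _ _ => rfl
      p := a
      compat := fun _ => rfl }
  refine exists_pullback_iso f L d (fun y hy => ?_) D ha fun y hy => ?_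
  · obtain ⟨V, hV, hyV, b, hb', -⟩ := hfr y hy
    exact ⟨V, hyV, hV, b, hb'⟩
  · exact hfr y hy

/-- No chains of three points in dimension at most one. -/
theorem eq_or_eq_of_chain {T : Type*} [TopologicalSpace T] [T0Space T] (h : topologicalKrullDim T ≤ 1)
    {a b c : T} (hab : a ⤳ b) (hbc : b ⤳ c) : a = b ∨ b = c := by
  by_contra! hne
  let cl : T → IrreducibleCloseds T := fun t => ⟨closure {t}, isIrreducible_singleton.closure, isClosed_closure⟩
  have hlt : ∀ s t : T, t ⤳ s → t ≠ s → cl s < cl t := by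
    intro s t hts hne
    refine lt_of_le_of_ne (closure_minimal (Set.singleton_subset_iff.2 hts.mem_closure) isClosed_closure) fun e => hne ?_
    refine (hts.antisymm ?_).eq
    exact specializes_iff_mem_closure.2 ((congrArg (fun Z : IrreducibleCloseds T => (Z : Set T)) e).ge
      (subset_closure rfl))
  let l : LTSeries (IrreducibleCloseds T) :=
    { length := 2
      toFun := ![cl c, cl b, cl a]
      step := fun i => by
        fin_cases i
        · exact hlt c b hbc hne.2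
        · exact hlt b a hab hne.1 }
  refine absurd ((Order.LTSeries.length_le_krullDim l).trans h) ?_
  change ¬ ((2 : ℕ) : WithBot ℕ∞) ≤ 1
  decide

/-- A finite morphism to a one-dimensional Noetherian space that is a closed immersion over a dense open. -/
theorem exists_pullback_iso_of_closedImmersion [IsFinite f] [NoetherianSpace Y]
    (hdim : topologicalKrullDim Y ≤ 1) (V : Y.Opens) (hV : Dense (V : Set Y))
    (hfV : IsClosedImmersion (f ∣_ V)) (L : X.Modules) (hL : PicF.IsInvertible L) :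
    ∃ N : Y.Modules, PicF.IsInvertible N ∧ Nonempty ((Scheme.Modules.pullback f).obj N ≅ L) := by
  classical
  let G := irreducibleComponents ↥Y
  have hG : G.Finite := NoetherianSpace.finite_irreducibleComponents
  have hrange : IsClosed (Set.range f) := f.isClosedMap.isClosed_range
  have hO : ∀ Z : G, ∃ (η : Y) (O : Y.Opens), IsGenericPoint η (Z : Set Y) ∧ η ∈ O ∧ O ≤ V ∧
      (O : Set Y) ⊆ Z ∧ (∀ Z' : G, Z' ≠ Z → Disjoint (O : Set Y) (Z' : Set Y)) ∧
      ((O : Set Y) ⊆ Set.range f ∨ Disjoint (O : Set Y) (Set.range f)) ∧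
      ∃ a : Γ(L, f ⁻¹ᵁ O), IsFrame L a := by
    intro Z
    have hZc := isClosed_of_mem_irreducibleComponents _ Z.2
    let R : Set Y := ⋃₀ (G \ {(Z : Set Y)})
    have hR : IsClosed R := by
      rw [show R = ⋃ W ∈ G \ {(Z : Set Y)}, W from Set.sUnion_eq_biUnion]
      exact (hG.subset Set.diff_subset).isClosed_biUnion fun W hW => isClosed_of_mem_irreducibleComponents _ hW.1
    obtain ⟨η, hη⟩ := QuasiSober.sober Z.2.1 hZc
    have hηR : η ∉ R := by
      rintro ⟨W, ⟨hW, hWZ⟩, hηW⟩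
      have hle : (Z : Set Y) ⊆ W := hη ▸ closure_minimal (Set.singleton_subset_iff.2 hηW)
        (isClosed_of_mem_irreducibleComponents _ hW)
      exact hWZ ((Z.2.2 hW.1 hle).antisymm hle)
    have hcov : ∀ z, z ∉ R → z ∈ (Z : Set Y) := fun z hz => by
      by_contra hzZ
      exact hz ⟨irreducibleComponent z, ⟨irreducibleComponent_mem_irreducibleComponents z,
        fun e => hzZ (e ▸ mem_irreducibleComponent)⟩, mem_irreducibleComponent⟩
    have hηV : η ∈ V := by
      obtain ⟨z, hzV, hzR⟩ := hV.inter_open_nonempty _ hR.isOpen_compl ⟨η, hηR⟩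
      exact (hη.specializes (hcov z hzV)).mem_open V.isOpen hzR
    obtain ⟨W, hηW, a, ha⟩ := exists_frame_fibre f hL η
    let O₁ : Y.Opens := ⟨Rᶜ, hR.isOpen_compl⟩ ⊓ V ⊓ W
    have hO₁ : (O₁ : Set Y) ⊆ Z := fun z hz => hcov z hz.1.1
    have hdj : ∀ Z' : G, Z' ≠ Z → Disjoint (O₁ : Set Y) (Z' : Set Y) := fun Z' hne =>
      Set.disjoint_left.2 fun z hz hz' => hz.1.1 ⟨Z'.1, ⟨Z'.2, fun e => hne (Subtype.ext e)⟩, hz'⟩
    by_cases hr : η ∈ Set.range f
    · exact ⟨η, O₁, hη, ⟨⟨hηR, hηV⟩, hηW⟩, inf_le_left.trans inf_le_right, hO₁, hdj,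
        Or.inl (hO₁.trans (hη ▸ closure_minimal (Set.singleton_subset_iff.2 hr) hrange)),
        _, ha.res (f.preimage_mono (inf_le_right : O₁ ≤ W))⟩
    · let O₂ : Y.Opens := O₁ ⊓ ⟨(Set.range f)ᶜ, hrange.isOpen_compl⟩
      exact ⟨η, O₂, hη, ⟨⟨⟨hηR, hηV⟩, hηW⟩, hr⟩, inf_le_left.trans (inf_le_left.trans inf_le_right),
        fun z hz => hO₁ hz.1, fun Z' hne => (hdj Z' hne).mono_left fun z hz => hz.1,
        Or.inr (Set.disjoint_left.2 fun z hz => hz.2),
        _, ha.res (f.preimage_mono (inf_le_left.trans inf_le_right : O₂ ≤ W))⟩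
  choose η O hη hηO hOV hOZ hOd hOr hOa using hO
  let U : Y.Opens := ⨆ Z, O Z
  have hUV : U ≤ V := iSup_le hOV
  have hdisjO : ∀ Z Z' : G, Z ≠ Z' → O Z ⊓ O Z' = ⊥ := fun Z Z' hne => Opens.ext (Set.eq_empty_iff_forall_notMem.2
    fun z hz => Set.disjoint_left.1 (hOd Z Z' hne.symm) hz.1 (hOZ Z' hz.2))
  have hgen : ∀ z y : Y, z ⤳ y → z ≠ y → z ∈ U ∧ ∃ Z, z = η Z := by
    intro z y hzy hne
    let Z : G := ⟨irreducibleComponent z, irreducibleComponent_mem_irreducibleComponents z⟩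
    obtain h | h := eq_or_eq_of_chain hdim ((hη Z).specializes mem_irreducibleComponent) hzy
    · exact ⟨Opens.mem_iSup.2 ⟨Z, h ▸ hηO Z⟩, Z, h.symm⟩
    · exact absurd h hne
  have hcl : ∀ y : Y, y ∉ U → ∀ z, y ⤳ z → z = y := fun y hy z hyz =>
    not_not.1 fun hne => hy (hgen y z hyz (Ne.symm hne)).1
  have hfinU : ((U : Set Y)ᶜ).Finite := by
    obtain ⟨S, hSf, hSc, hSi, hS⟩ :=
      NoetherianSpace.exists_finite_set_isClosed_irreducible U.isOpen.isClosed_compl
    rw [hS]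
    refine hSf.sUnion fun t ht => ?_
    obtain ⟨ξ, hξ⟩ := QuasiSober.sober (hSi t ht) (hSc t ht)
    have hξU : ξ ∉ U := hS.ge ⟨t, ht, hξ.mem⟩
    exact (Set.finite_singleton ξ).subset fun z hz => hcl ξ hξU z (hξ.specializes hz)
  have hdisc : DiscreteTopology ↥((U : Set Y)ᶜ) := by
    haveI := hfinU.to_subtype
    haveI : T1Space ↥((U : Set Y)ᶜ) := t1Space_iff_specializes_imp_eq.2 fun a b h =>
      (Subtype.ext (hcl a.1 a.2 b.1 ((subtype_specializes_iff a b).1 h))).symm
    infer_instance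
  have : NoetherianSpace ↥(U : Scheme.{u}) := U.ι.isOpenEmbedding.isInducing.noetherianSpace
  have : QuasiCompact U.ι := ⟨fun O _ _ => NoetherianSpace.isCompact _⟩
  -- frame of `L` over the preimage of `U`
  obtain ⟨aU, haU⟩ : ∃ a : Γ(L, f ⁻¹ᵁ U), IsFrame L a :=
    exists_frame_disjoint (fun Z : G => f ⁻¹ᵁ O Z) (fun Z => f.preimage_mono (le_iSup O Z))
      (fun x hx => by
        obtain ⟨Z, hZ⟩ := Opens.mem_iSup.1 (show f x ∈ ⨆ Z, O Z from hx)
        exact ⟨Z, hZ⟩)
      (fun Z Z' hne => le_bot_iff.1 fun x hx => False.elim ((hdisjO Z Z' hne).le (show f x ∈ O Z ⊓ O Z' from hx)))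
      hOa
  -- charts
  have hch : ∀ y : ↥((U : Set Y)ᶜ), ∃ (W : Y.Opens) (_ : y.1 ∈ W) (p : Γ(L, f ⁻¹ᵁ W))
      (e : Γ(Y, W ⊓ U)), IsFrame L p ∧ IsUnit e ∧ (∀ z ∈ W, z ∉ U → z = y.1) ∧
      f.app (W ⊓ U) e • mres L (f.preimage_mono (inf_le_right : W ⊓ U ≤ U)) aU =
        mres L (f.preimage_mono (inf_le_left : W ⊓ U ≤ W)) p := by
    intro y
    obtain ⟨W₁, hyW₁, p, hp⟩ := exists_frame_fibre f hL y.1
    obtain ⟨W₂, hW₂, hyW₂, g, honly, hWU⟩ := exists_nhd_of_finite U hdisc y.2 fun W hW hyW => by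
      refine Set.Finite.subset (s := (Set.range fun Z : G => if h : η Z ∈ W then
          (hW.primeIdealOf ⟨η Z, h⟩).asIdeal else ⊥)) ?_ fun q ⟨hq, hqp, hne⟩ => ?_
      · haveI := hG.to_subtype
        exact Set.finite_range _
      obtain ⟨z, hz, hzq⟩ := AssPts.exists_point hW q
      obtain ⟨-, Z, hZ⟩ := hgen z y.1 ((AssPts.specializes_iff hW y.1 hyW hz).2 (hzq ▸ hqp)) fun e => hne (by
        subst e; exact hzq.symm)
      subst hZ
      exact ⟨Z, (dif_pos hz).trans hzq⟩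
    obtain ⟨h, hh, hyh⟩ := hW₂.exists_basicOpen_le (V := W₁) ⟨y.1, hyW₁⟩ hyW₂
    let W := Y.basicOpen h
    have hWW₂ : W ≤ W₂ := Y.basicOpen_le h
    have hB : IsAffineOpen (W ⊓ U) := by
      have e : W ⊓ U = Y.basicOpen (g * h) := by
        rw [Scheme.basicOpen_mul, ← hWU]
        exact le_antisymm (le_inf (le_inf (inf_le_left.trans hWW₂) inf_le_right) inf_le_left)
          (le_inf inf_le_right (inf_le_left.trans inf_le_right))
      rw [e]
      exact hW₂.basicOpen _
    have hp' := hp.res (f.preimage_mono hh : f ⁻¹ᵁ W ≤ f ⁻¹ᵁ W₁)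
    have hp'' := hp'.res (f.preimage_mono (inf_le_left : W ⊓ U ≤ W))
    have haB := haU.res (f.preimage_mono (inf_le_right : W ⊓ U ≤ U))
    obtain ⟨c, hc⟩ := haB.bijective.2 (mres L (f.preimage_mono (inf_le_left : W ⊓ U ≤ W))
      (mres L (f.preimage_mono hh) p))
    have hcu : IsUnit c := haB.isUnit_of_smul (by simp only at hc; rw [hc]; exact hp'')
    -- lift `c`
    haveI := hfV
    have hs : ∀ T : Y.Opens, IsAffineOpen T → T ≤ V → Function.Surjective (f.app T) := by
      intro T hT hTV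
      obtain ⟨B', rfl⟩ : ∃ B' : (V : Scheme.{u}).Opens, V.ι ''ᵁ B' = T :=
        ⟨V.ι ⁻¹ᵁ T, (V.ι.image_preimage_eq_opensRange_inf _).trans
          (by rw [Scheme.Opens.opensRange_ι]; exact inf_eq_right.mpr hTV)⟩
      rw [V.ι.isAffineOpen_iff_of_isOpenImmersion] at hT
      have hs' := (f ∣_ V).app_surjective B' hT
      rw [morphismRestrict_app] at hs'
      intro t
      obtain ⟨r, hr⟩ := hs' (X.presheaf.map (eqToHom (image_morphismRestrict_preimage f V B')).op t)
      exact ⟨r, (ConcreteCategory.bijective_of_isIso _).1 hr⟩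
    obtain ⟨c₁, hc₁⟩ := hs (W ⊓ U) hB (inf_le_right.trans hUV) c
    -- make the lift a unit
    let κ := G
    let ev : ∀ Z : κ, Γ(Y, W ⊓ O Z) := fun Z =>
      if (O Z : Set Y) ⊆ Set.range f then ores (inf_le_inf_left W (le_iSup O Z)) c₁ else 1
    obtain ⟨e, he, -⟩ := Y.sheaf.existsUnique_gluing' (fun Z : κ => W ⊓ O Z) (W ⊓ U)
      (fun Z => homOfLE (inf_le_inf_left W (le_iSup O Z))) (fun z hz => by
        obtain ⟨Z, hZ⟩ := Opens.mem_iSup.1 hz.2
        exact Opens.mem_iSup.2 ⟨Z, hz.1, hZ⟩) ev fun Z Z' => by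
      by_cases hne : Z = Z'
      · subst hne; rfl
      · refine TopCat.Presheaf.section_ext Y.sheaf _ _ _ fun z hz => ?_
        exact False.elim ((hdisjO Z Z' hne).le ⟨hz.1.2, hz.2.2⟩)
    let e' : Γ(Y, W ⊓ U) := e
    have he' : ∀ Z, ores (inf_le_inf_left W (le_iSup O Z)) e' = ev Z := he
    have hgerm : ∀ (Z : κ) (z : Y) (hzW : z ∈ W) (hzZ : z ∈ O Z),
        Y.presheaf.germ (W ⊓ U) z ⟨hzW, Opens.mem_iSup.2 ⟨Z, hzZ⟩⟩ e' =
          Y.presheaf.germ (W ⊓ O Z) z ⟨hzW, hzZ⟩ (ev Z) := fun Z z hzW hzZ => by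
      rw [← he' Z, ores, TopCat.Presheaf.germ_res_apply]
    have hunit : IsUnit e' := by
      refine Y.toRingedSpace.isUnit_of_isUnit_germ (W ⊓ U) e' ?_
      rintro z ⟨hzW, hzU⟩
      obtain ⟨Z, hZ⟩ := Opens.mem_iSup.1 hzU
      change IsUnit (Y.presheaf.germ (W ⊓ U) z _ e')
      rw [hgerm Z z hzW hZ]
      by_cases hsub : (O Z : Set Y) ⊆ Set.range f
      · obtain ⟨x, rfl⟩ := hsub hZ
        simp only [ev, if_pos hsub, ores]
        rw [TopCat.Presheaf.germ_res_apply]
        refine (isUnit_map_iff (f.stalkMap x).hom _).1 ?_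
        change IsUnit (f.stalkMap x (Y.presheaf.germ (W ⊓ U) (f x) _ c₁))
        rw [Scheme.Hom.germ_stalkMap_apply, hc₁]
        exact hcu.map _
      · simp only [ev, if_neg hsub, map_one]
        exact isUnit_one
    refine ⟨W, hyh, _, e', hp', hunit, fun z hz => honly z (hWW₂ hz), ?_⟩
    rw [show f.app (W ⊓ U) e' = c from ?_]
    · exact hc
    refine TopCat.Presheaf.section_ext X.sheaf _ _ _ fun x hx => ?_
    obtain ⟨Z, hZ⟩ := Opens.mem_iSup.1 hx.2
    have hsub : (O Z : Set Y) ⊆ Set.range f :=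
      (hOr Z).resolve_right fun hd => Set.disjoint_left.1 hd hZ ⟨x, rfl⟩
    change X.presheaf.germ (f ⁻¹ᵁ (W ⊓ U)) x hx (f.app (W ⊓ U) e') = X.presheaf.germ (f ⁻¹ᵁ (W ⊓ U)) x hx c
    rw [← hc₁, ← Scheme.Hom.germ_stalkMap_apply f (W ⊓ U) x hx, ← Scheme.Hom.germ_stalkMap_apply f (W ⊓ U) x hx,
      hgerm Z _ hx.1 hZ]
    simp only [ev, if_pos hsub, ores]
    rw [TopCat.Presheaf.germ_res_apply]
  choose W hyW p e hp he honly hrel using hch
  have hone : IsFrame (Coh.structureModule Y) (U := U) (1 : Γ(Y, U)) := fun T hT => by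
    change Function.Bijective fun r : Γ(Y, T) => r * ores hT 1
    simp only [map_one, mul_one]
    exact Function.bijective_id
  have hinv : ∀ i, IsFrame (Coh.structureModule Y) (U := W i ⊓ U) (e i : Γ(Coh.structureModule Y, W i ⊓ U)) := by
    intro i T hT
    change Function.Bijective fun r : Γ(Y, T) => r * ores hT (e i)
    exact ((he i).map (ores hT)).unit.mulRight.bijective
  let d : Data Y :=
    { M := Coh.structureModule Y, U := U, ι := ↥((U : Set Y)ᶜ), W := W
      e := fun i => e i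
      frame := hinv
      cover := fun y => (em (y ∈ U)).imp id fun h => ⟨⟨y, h⟩, hyW ⟨y, h⟩⟩
      disj := fun i j hij z hz => not_not.1 fun hzU =>
        hij (Subtype.ext ((honly i z hz.1 hzU).symm.trans (honly j z hz.2 hzU))) }
  let D : HomData d ((Scheme.Modules.pushforward f).obj L) :=
    { ρ := fun {T} hT =>
        { toFun := fun r : Γ(Y, T) => (f.app T r • mres L (f.preimage_mono hT) aU : Γ(L, f ⁻¹ᵁ T))
          map_zero' := by rw [map_zero, zero_smul]
          map_add' := fun r r' => by rw [map_add, add_smul] }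
      res := fun {T T'} hT h r => by
        change mres L (f.preimage_mono h) (f.app T r • mres L (f.preimage_mono hT) aU) =
          f.app T' (ores h r) • mres L (f.preimage_mono (h.trans hT)) aU
        rw [mres_smul, mres_mres]
        congr 1
        exact (ConcreteCategory.congr_hom (f.naturality (homOfLE h).op) r).symm
      smul := fun {T} hT r m => by
        change f.app T (r * (show Γ(Y, T) from m)) • mres L (f.preimage_mono hT) aU = f.app T r • (f.app T m • mres L (f.preimage_mono hT) aU : Γ(L, f ⁻¹ᵁ T))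
        rw [map_mul, mul_smul]
      p := p
      compat := fun i => hrel i }
  refine exists_pullback_iso f L d (fun y hy => ⟨U, hy, le_rfl, (1 : Γ(Y, U)), hone⟩) D hp
    fun y hy => ⟨U, le_rfl, hy, (1 : Γ(Y, U)), hone, ?_⟩
  change IsFrame L (U := f ⁻¹ᵁ U) (f.app U 1 • mres L (f.preimage_mono (le_refl U)) aU)
  rw [map_one, one_smul, mres_refl]
  exact haU

end Groth.Agent.ModGlue
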